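import Mathlib.RingTheory.Idempotents
import Mathlib.RingTheory.Nilpotent.Basic
import Mathlib.Algebra.Algebra.Subalgebra.Basic
import Mathlib.LinearAlgebra.Matrix.Permutation
import Mathlib.LinearAlgebra.FiniteDimensional.Basic
import Mathlib.LinearAlgebra.Dimension.Constructions
import Mathlib.Algebra.Field.Basic

/-!
# Algebras which are full matrix algebras over their centre

If an algebra `A` maps onto a product of `n × n` matrix algebras with nil kernel and its
dimension is `n²` times a lower bound for the dimension of its centre, then the kernel is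
generated by central elements of the kernel.
-/

set_option autoImplicit false
set_option linter.unusedSectionVars false

namespace Cfsg.Agent.EqualDegree

open Matrix

theorem isUnit_of_map_isUnit {A S : Type*} [Ring A] [Ring S] (f : A →+* S)
    (hnil : ∀ x, f x = 0 → IsNilpotent x) {a b : A} (h : f a * f b = 1) (h' : f b * f a = 1) :
    IsUnit a := by
  have key : ∀ u v : A, f u * f v = 1 → IsUnit (u * v) := by
    intro u v huv
    have := (hnil (1 - u * v) (by rw [map_sub, map_one, map_mul, huv, sub_self])).isUnit_one_sub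
    rwa [sub_sub_cancel] at this
  obtain ⟨c, hc⟩ := (key a b h).exists_right_inv
  obtain ⟨d, hd⟩ := (key b a h').exists_left_inv
  rw [mul_assoc] at hc
  rw [← mul_assoc] at hd
  exact ⟨⟨a, b * c, hc, by rw [← left_inv_eq_right_inv hd hc, hd]⟩, rfl⟩

theorem exists_conjugating_unit {A S : Type*} [Ring A] [Ring S] (f : A →+* S)
    (hnil : ∀ x, f x = 0 → IsNilpotent x) {e₀ e₁ w : A} (h₀ : IsIdempotentElem e₀)
    (h₁ : IsIdempotentElem e₁) (hw : f w * f w = 1) (hc : f e₁ * f w = f w * f e₀) :
    ∃ t : Aˣ, e₁ * (t : A) = (t : A) * e₀ := by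
  set t := e₁ * w * e₀ + (1 - e₁) * w * (1 - e₀) with ht
  have hft : f t = f w := by
    have h := (h₀.map f).eq
    simp only [ht, map_add, map_mul, map_sub, map_one]
    calc f e₁ * f w * f e₀ + (1 - f e₁) * f w * (1 - f e₀)
        = f w * (f e₀ * f e₀) + (f w - f w * f e₀) * (1 - f e₀) := by
          rw [hc, sub_mul, one_mul, hc, mul_assoc]
      _ = f w := by
          rw [mul_sub, mul_one, sub_mul, mul_assoc, h]
          abel
  obtain ⟨u, hu⟩ := isUnit_of_map_isUnit f hnil (a := t) (b := w) (by rw [hft, hw]) (by rw [hft, hw])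
  refine ⟨u, ?_⟩
  rw [hu, ht]
  calc e₁ * (e₁ * w * e₀ + (1 - e₁) * w * (1 - e₀))
      = e₁ * e₁ * w * e₀ + e₁ * (1 - e₁) * w * (1 - e₀) := by simp only [mul_add, mul_assoc]
    _ = e₁ * w * (e₀ * e₀) + (1 - e₁) * w * ((1 - e₀) * e₀) := by
        rw [h₁.eq, h₀.eq, h₁.mul_one_sub_self, h₀.one_sub_mul_self]
        simp
    _ = (e₁ * w * e₀ + (1 - e₁) * w * (1 - e₀)) * e₀ := by simp only [add_mul, mul_assoc]

section Algebra

variable {k A : Type*} [Field k] [Ring A] [Algebra k A] [FiniteDimensional k A]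

/-- The kernel of the matrix representation is generated by central elements. -/
theorem exists_eq_sum_central {ι : Type*} [Fintype ι] {n m : ℕ} [NeZero n]
    (Φ : A →ₐ[k] (ι → Matrix (Fin n) (Fin n) k)) (hsurj : Function.Surjective Φ)
    (hnil : ∀ x, Φ x = 0 → IsNilpotent x) (hA : Module.finrank k A ≤ n ^ 2 * m)
    (hZ : m ≤ Module.finrank k (Subalgebra.center k A)) {y : A} (hy : Φ y = 0) :
    ∃ z b : Fin n → Fin n → A,
      (∀ i j, z i j ∈ Subalgebra.center k A ∧ Φ (z i j) = 0) ∧ y = ∑ i, ∑ j, z i j * b i j := by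
  classical
  let e : Fin n → (ι → Matrix (Fin n) (Fin n) k) := fun i _ => Matrix.single i i 1
  have hE : CompleteOrthogonalIdempotents e := by
    refine ⟨⟨fun i => ?_, fun i j hij => ?_⟩, ?_⟩
    · funext a
      simp [e]
    · funext a
      simp [e, Matrix.single_mul_single_of_ne, hij]
    · funext a
      ext r c
      simp only [e, Finset.sum_apply, Matrix.sum_apply, Pi.one_apply]
      rw [Finset.sum_eq_single r (fun x _ hx => by simp [Matrix.single_apply, hx])
        (fun h => absurd (Finset.mem_univ r) h), Matrix.single_apply, Matrix.one_apply]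
      simp
  obtain ⟨f, hf, hfe⟩ := CompleteOrthogonalIdempotents.lift_of_isNilpotent_ker
    (Φ : A →+* (ι → Matrix (Fin n) (Fin n) k)) (fun x hx => hnil x hx) hE
    (fun i => hsurj (e i))
  have hfe' : ∀ i, Φ (f i) = e i := fun i => congrFun hfe i
  have ht : ∀ i, ∃ t : Aˣ, f i * (t : A) = (t : A) * f 0 := by
    intro i
    obtain ⟨w, hw⟩ := hsurj fun _ => (Equiv.swap (0 : Fin n) i).toPEquiv.toMatrix
    have hw' : Φ w = fun _ => (Equiv.swap (0 : Fin n) i).toPEquiv.toMatrix := hw
    refine exists_conjugating_unit (Φ : A →+* (ι → Matrix (Fin n) (Fin n) k)) (fun x hx => hnil x hx)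
      (w := w) (hf.idem 0) (hf.idem i) ?_ ?_
    · funext a
      show Φ w a * Φ w a = 1
      rw [hw', ← PEquiv.toMatrix_trans, ← Equiv.toPEquiv_trans]
      simp [Equiv.toPEquiv_refl]
    · funext a
      show Φ (f i) a * Φ w a = Φ w a * Φ (f 0) a
      rw [hw', hfe', hfe', PEquiv.toMatrix_toPEquiv_mul, PEquiv.mul_toMatrix_toPEquiv]
      ext r c
      simp only [e, Matrix.submatrix_apply, id_eq, Matrix.single_apply, Equiv.symm_swap]
      congr 1
      apply propext
      constructor
      · rintro ⟨rfl, h⟩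
        refine ⟨by simp, ?_⟩
        conv_lhs => rw [← Equiv.swap_apply_right (0 : Fin n) i]
        conv_lhs => arg 2; rw [h]
        rw [Equiv.swap_apply_self]
      · rintro ⟨h, rfl⟩
        refine ⟨?_, by simp⟩
        conv_lhs => rw [← Equiv.swap_apply_left (0 : Fin n) i]
        conv_lhs => arg 2; rw [h]
        rw [Equiv.swap_apply_self]
  choose t htf using ht
  have hconj : ∀ i, f i = (t i : A) * f 0 * ((t i)⁻¹ : Aˣ) := fun i => by
    rw [← htf i, mul_assoc, Units.mul_inv, mul_one]
  set C : Submodule k A := LinearMap.range (LinearMap.mulLeftRight k (f 0, f 0)) with hC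
  have hCmem : ∀ x : A, f 0 * x * f 0 ∈ C := fun x => ⟨x, by simp⟩
  have hCfix : ∀ x ∈ C, f 0 * x * f 0 = x := by
    rintro _ ⟨x, rfl⟩
    simp only [LinearMap.mulLeftRight_apply]
    rw [← mul_assoc, ← mul_assoc, (hf.idem 0).eq, mul_assoc _ (f 0), (hf.idem 0).eq]
  -- the corner has dimension at most `m`
  let Θ : (Fin n × Fin n → C) →ₗ[k] A :=
    { toFun := fun c => ∑ q, (t q.1 : A) * (c q : A) * ((t q.2)⁻¹ : Aˣ)
      map_add' := fun c d => by
        simp only [Pi.add_apply, Submodule.coe_add, mul_add, add_mul, Finset.sum_add_distrib]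
      map_smul' := fun r c => by simp [Finset.smul_sum] }
  have hΘ : Function.Injective Θ := by
    refine (injective_iff_map_eq_zero Θ).2 fun c hc => funext fun q => Subtype.ext ?_
    have h1 : f q.1 * Θ c * f q.2 = (t q.1 : A) * (c q : A) * ((t q.2)⁻¹ : Aˣ) := by
      show f q.1 * (∑ r, (t r.1 : A) * (c r : A) * ((t r.2)⁻¹ : Aˣ)) * f q.2 = _
      rw [Finset.mul_sum, Finset.sum_mul, Finset.sum_eq_single q]
      · rw [← hCfix _ (c q).2]
        conv_lhs => rw [hconj q.1, hconj q.2]
        simp only [mul_assoc, Units.inv_mul_cancel_left]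
        simp only [← mul_assoc (f 0) (f 0), (hf.idem 0).eq]
      · intro r _ hr
        have : f q.1 * ((t r.1 : A) * (c r : A) * ((t r.2)⁻¹ : Aˣ)) * f q.2 =
            (f q.1 * f r.1) * ((t r.1 : A) * (c r : A) * ((t r.2)⁻¹ : Aˣ)) * (f r.2 * f q.2) := by
          conv_lhs => rw [← hCfix _ (c r).2]
          conv_rhs => rw [hconj r.1, hconj r.2, ← hCfix _ (c r).2]
          simp only [mul_assoc, Units.inv_mul_cancel_left]
          simp only [← mul_assoc (f 0) (f 0), (hf.idem 0).eq]
        rw [this]
        rcases not_and_or.1 (fun h => hr (Prod.ext h.1 h.2) :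
            ¬ (r.1 = q.1 ∧ r.2 = q.2)) with h | h
        · rw [hf.ortho (Ne.symm h), zero_mul, zero_mul]
        · rw [hf.ortho h, mul_zero]
      · exact fun h => absurd (Finset.mem_univ _) h
    rw [hc, mul_zero, zero_mul] at h1
    simpa using (((t q.2)⁻¹).mul_left_eq_zero.1 h1.symm)
  have hdimC : Module.finrank k C ≤ m := by
    have h := (LinearMap.finrank_le_finrank_of_injective hΘ).trans hA
    rw [Module.finrank_pi_fintype, Finset.sum_const, Finset.card_univ, Fintype.card_prod,
      Fintype.card_fin, smul_eq_mul, ← sq] at h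
    exact Nat.le_of_mul_le_mul_left h (pow_pos (NeZero.pos n) 2)
  -- the centre maps onto the corner
  let g : Subalgebra.center k A →ₗ[k] C :=
    { toFun := fun z => ⟨(z : A) * f 0, by
        have h := hCmem (z : A)
        rwa [Subalgebra.mem_center_iff.1 z.2 (f 0), mul_assoc, (hf.idem 0).eq] at h⟩
      map_add' := fun a b => Subtype.ext (add_mul _ _ _)
      map_smul' := fun r a => Subtype.ext (smul_mul_assoc r _ _) }
  have hback : ∀ z : A, z ∈ Subalgebra.center k A →
      z = ∑ i, (t i : A) * (z * f 0) * ((t i)⁻¹ : Aˣ) := by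
    intro z hz
    calc z = z * ∑ i, f i := by rw [hf.complete, mul_one]
      _ = _ := by
        rw [Finset.mul_sum]
        refine Finset.sum_congr rfl fun i _ => ?_
        rw [hconj i, ← mul_assoc, ← mul_assoc, ← Subalgebra.mem_center_iff.1 hz, mul_assoc _ z]
  have hg : Function.Injective g := by
    refine (injective_iff_map_eq_zero g).2 fun z hz => Subtype.ext ?_
    have h0 : (z : A) * f 0 = 0 := congrArg Subtype.val hz
    rw [hback z z.2]
    simp [h0]
  have hgs : Function.Surjective g := by
    rw [← LinearMap.range_eq_top]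
    refine Submodule.eq_top_of_finrank_eq (le_antisymm (Submodule.finrank_le _) ?_)
    rw [LinearMap.finrank_range_of_inj hg]
    exact hdimC.trans hZ
  choose z hz using fun i j : Fin n => hgs ⟨_, hCmem (((t i)⁻¹ : Aˣ) * y * (t j : A))⟩
  have hz' : ∀ i j, (z i j : A) * f 0 = f 0 * (((t i)⁻¹ : Aˣ) * y * (t j : A)) * f 0 :=
    fun i j => congrArg Subtype.val (hz i j)
  refine ⟨fun i j => (z i j : A), fun i j => (t i : A) * f 0 * ((t j)⁻¹ : Aˣ),
    fun i j => ⟨(z i j).2, ?_⟩, ?_⟩
  · show Φ (z i j : A) = 0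
    rw [hback _ (z i j).2]
    simp only [hz', map_sum, map_mul, hy, mul_zero, zero_mul, Finset.sum_const_zero]
  · calc y = (∑ i, f i) * y * (∑ j, f j) := by rw [hf.complete, one_mul, mul_one]
      _ = ∑ i, ∑ j, f i * y * f j := by rw [Finset.sum_mul, Finset.sum_mul]; simp [Finset.mul_sum]
      _ = _ := by
        refine Finset.sum_congr rfl fun i _ => Finset.sum_congr rfl fun j _ => ?_
        rw [← mul_assoc, ← mul_assoc, ← Subalgebra.mem_center_iff.1 (z i j).2 (t i : A),
          mul_assoc (t i : A), hz', hconj i, hconj j]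
        simp only [mul_assoc]

end Algebra

end Cfsg.Agent.EqualDegree
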