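import Cfsg.Agent.Lib.Blocks.NilpotentRank.Main

/-!
# Height zero characters of a nilpotent block have one degree

Every height zero member `χ` satisfies `|P| [χ°, χ°] = 1`, and `χ° = d_χ φ` as the rank is one; so
`d_χ` is the same for all of them.
-/

set_option autoImplicit false
set_option linter.unusedSectionVars false
set_option linter.style.haveILetI false

namespace Cfsg.Agent.EqualDegree

open Cfsg Cfsg.Agent.Blocks Cfsg.Agent.Blocks.NilRank
open Cfsg.Agent.BrauerPairs (regDot blkG regFun_regFun)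
open scoped Classical ComplexConjugate

universe u

variable {G : Type u} [Group G] [Fintype G] {M : Ideal AlgInt} [M.IsMaximal] {p : ℕ}
  [hp : Fact p.Prime] [CharP (AlgInt ⧸ M) p] {B : Set (IrrCharacter G)}

/-- The height zero characters of a nilpotent block have the same degree. -/
theorem degree_eq_of_isNilpotentBlock (hM : IsPModular p M) (hnil : IsNilpotentBlock p M B)
    {χ ψ : IrrCharacter G} (hχ : χ ∈ B) (hψ : ψ ∈ B) (hhχ : blockHeight p B χ.1 = 0)
    (hhψ : blockHeight p B ψ.1 = 0) : Char.degree χ = Char.degree ψ := by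
  have hpM := hM.2.2
  have hB := hnil.1
  have hnilp := (BrauerPairs.isNilpotentBlock_iff hB).1 hnil
  obtain ⟨⟨P, e⟩, hmax⟩ := BrauerPairs.exists_isMax (p := p) hB
  obtain ⟨φ, d, -, hd, -⟩ :=
    BrauerPairs.rank_one_data hpM hB (blockRank_eq_one_of_nilpotent hM hnil)
  have hone : IsPRegular p (1 : G) := fun h => hp.out.not_dvd_one (by rwa [orderOf_one] at h)
  set r : ℂ := classInner (Char.regFun p φ) (Char.regFun p φ)
  have hnorm : ∀ η ∈ B, blockHeight p B η.1 = 0 →
      (Nat.card P : ℂ) * ((d η : ℂ) ^ 2 * r) = 1 := by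
    intro η hη hh
    have h1 := TT_self_eq_one hpM hB hmax hnilp hη hh (one_mem P)
    rw [TT_one hpM hB hmax hnilp hη] at h1
    have h := BrauerPairs.classInner_regFun_right p (Char.regFun p η.1) η.1
    rw [regDot, regFun_regFun] at h
    change _ = regDot p η.1 η.1 at h
    have hreg : Char.regFun p η.1 = (d η : ℂ) • Char.regFun p φ := by
      funext s
      simp only [Char.regFun, Pi.smul_apply, smul_eq_mul]
      split_ifs with hs
      · rw [mul_zero]
      · rw [hd η hη s hs]
    rw [← h, hreg, Char.classInner_smul_left, Char.classInner_smul_right, map_natCast] at h1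
    rw [← h1]
    ring
  have h := (hnorm χ hχ hhχ).trans (hnorm ψ hψ hhψ).symm
  have hr : (Nat.card P : ℂ) * r ≠ 0 := fun h0 => by
    have h2 := hnorm ψ hψ hhψ
    rw [show (Nat.card P : ℂ) * ((d ψ : ℂ) ^ 2 * r) = (Nat.card P : ℂ) * r * (d ψ : ℂ) ^ 2 by ring,
      h0, zero_mul] at h2
    exact zero_ne_one h2
  have h3 : ((d χ ^ 2 : ℕ) : ℂ) = ((d ψ ^ 2 : ℕ) : ℂ) := by
    push_cast
    refine mul_left_cancel₀ hr ?_
    linear_combination h
  have h4 : d χ = d ψ := Nat.pow_left_injective two_ne_zero (Nat.cast_injective h3)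
  have h5 : (Char.degree χ : ℂ) = (Char.degree ψ : ℂ) := by
    rw [← Char.apply_one_eq_degree, ← Char.apply_one_eq_degree, hd χ hχ 1 hone, hd ψ hψ 1 hone, h4]
  exact_mod_cast h5

end Cfsg.Agent.EqualDegree
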