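import Cfsg.Agent.Lib.EqualDegree.Lambda
import Cfsg.Agent.Lib.BrauerPairs.Covering

/-!
# Central generation of the augmentation ideal forces trivial action

If the kernel of `kG e → k[G/D]` is generated by central elements, then an element fixing a block
idempotent `f` of the image of `C(D)` below the image of `e` centralises `D`.
-/

set_option autoImplicit false
set_option linter.unusedSectionVars false
set_option linter.style.haveILetI false

namespace Cfsg.Agent.EqualDegree

open MonoidAlgebra Cfsg.Agent.Blocks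
open Cfsg.Agent.BrauerPairs (IsBlockIdem suppIn fixedBy centerIn conjEl trunc)
open scoped Classical

theorem eq_zero_of_eq_mul_sum {R : Type*} [Ring R] {ι : Type*} (N w : ι → R)
    (hnil : ∀ i, IsNilpotent (N i)) (hNN : ∀ i j, Commute (N i) (N j))
    (hNw : ∀ i j, Commute (N i) (w j)) (s : Finset ι) :
    ∀ v : R, (∀ i, Commute (N i) v) → v = v * ∑ i ∈ s, N i * w i → v = 0 := by
  induction s using Finset.induction with
  | empty => exact fun v _ hv => by rwa [Finset.sum_empty, mul_zero] at hv
  | @insert i s his ih =>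
    intro v hv hsum
    rw [Finset.sum_insert his] at hsum
    obtain ⟨m, hm⟩ := hnil i
    have hkey : ∀ j, v * N i ^ j = v * N i ^ (j + 1) * w i + v * N i ^ j * ∑ x ∈ s, N x * w x := by
      intro j
      have hc : Commute (N i ^ j) (∑ x ∈ s, N x * w x) :=
        Commute.sum_right _ _ _ fun x _ => ((hNN i x).pow_left j).mul_right ((hNw i x).pow_left j)
      conv_lhs => rw [hsum]
      rw [mul_assoc v, add_mul, mul_add, mul_assoc (N i), ← ((hNw i i).pow_left j).eq,
        ← mul_assoc (N i), ← pow_succ', ← hc.eq, mul_assoc v, mul_assoc v]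
    have hz : ∀ t, t ≤ m → v * N i ^ (m - t) = 0 := by
      intro t
      induction t with
      | zero => intro _; rw [Nat.sub_zero, hm, mul_zero]
      | succ t iht =>
        intro ht
        refine ih _ (fun x => (hv x).mul_right ((hNN x i).pow_right _)) ?_
        conv_lhs => rw [hkey]
        rw [show m - (t + 1) + 1 = m - t by omega, iht (by omega), zero_mul, zero_add]
    simpa using hz m le_rfl

section Core

variable {G : Type*} [Group G] [Fintype G] {k : Type*} [Field k]

theorem trunc_mul_left {L : Subgroup G} (w : MonoidAlgebra k G) {s : MonoidAlgebra k G}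
    (hs : s ∈ suppIn k L) : trunc (L : Set G) (s * w) = s * trunc (L : Set G) w := by
  refine alg_ext fun g => ?_
  rw [BrauerPairs.coeff_trunc, coeff_mul_eq_sum, coeff_mul_eq_sum]
  by_cases hg : g ∈ L
  · rw [if_pos (show g ∈ (L : Set G) from hg)]
    refine Finset.sum_congr rfl fun y _ => ?_
    by_cases hy : y ∈ L
    · rw [BrauerPairs.coeff_trunc, if_pos (show y⁻¹ * g ∈ (L : Set G) from mul_mem (inv_mem hy) hg)]
    · rw [hs y hy, zero_mul, zero_mul]
  · rw [if_neg (show g ∉ (L : Set G) from hg)]
    refine (Finset.sum_eq_zero fun y _ => ?_).symm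
    by_cases hy : y ∈ L
    · rw [BrauerPairs.coeff_trunc, if_neg (show y⁻¹ * g ∉ (L : Set G) from fun h =>
        hg (by simpa using mul_mem hy h)), mul_zero]
    · rw [hs y hy, zero_mul]

theorem trunc_mem_suppIn (L : Subgroup G) (u : MonoidAlgebra k G) :
    trunc (L : Set G) u ∈ suppIn k L :=
  BrauerPairs.mem_suppIn.2 fun x hx => by
    rw [BrauerPairs.coeff_trunc, if_neg (show x ∉ (L : Set G) from hx)]

theorem trunc_mem_centerIn (L : Subgroup G) {u : MonoidAlgebra k G} (hu : u ∈ fixedBy k L) :
    trunc (L : Set G) u ∈ centerIn k L := by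
  refine ⟨trunc_mem_suppIn L u, BrauerPairs.mem_fixedBy_iff_coeff.2 fun y hy x => ?_⟩
  rw [BrauerPairs.coeff_trunc, BrauerPairs.coeff_trunc,
    BrauerPairs.mem_fixedBy_iff_coeff.1 hu y hy x]
  refine if_congr ?_ rfl rfl
  simp only [SetLike.mem_coe]
  constructor
  · intro h; simpa [mul_assoc] using mul_mem (mul_mem (inv_mem hy) h) hy
  · intro h; simpa [mul_assoc] using mul_mem (mul_mem hy h) (inv_mem hy)

variable {p : ℕ} [Fact p.Prime] [CharP k p] {D : Subgroup G} [D.Normal]

/-- The fixer of a block below a centrally generated kernel centralises `D`. -/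
theorem conjNormal_eq_of_fixes (hDc : ∀ u v : D, u * v = v * u) (hexp : ∀ u : D, u ^ p = 1)
    (C : Subgroup (G ⧸ D)) [C.Normal]
    (hC : ∀ g : G, (g : G ⧸ D) ∈ C ↔ ∀ u : D, MulAut.conjNormal g u = u)
    {f : MonoidAlgebra k (G ⧸ D)} (hf : IsBlockIdem C f)
    {e : MonoidAlgebra k G} (hec : IsCentralElt e) (hee : e * e = e) (hef : proj k D e * f = f)
    (hgen : ∀ y : MonoidAlgebra k G, e * y = y → proj k D y = 0 →
      ∃ (n : ℕ) (z b : Fin n → MonoidAlgebra k G),
        (∀ i, IsCentralElt (z i) ∧ proj k D (z i) = 0) ∧ y = ∑ i, z i * b i)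
    (htwo : p = 2 → ∀ g : G, conjEl (g : G ⧸ D) f = f →
      (∀ u : D, MulAut.conjNormal (g * g) u = u) → ∀ u : D, MulAut.conjNormal g u = u)
    {x : G} (hx : conjEl (x : G ⧸ D) f = f) (d : D) : MulAut.conjNormal x d = d := by
  -- off `C` the derived maps vanish on the fixer of `f`
  have hoff : ∀ g : G, conjEl (g : G ⧸ D) f = f → (g : G ⧸ D) ∉ C →
      ∀ a : D → k, IsAdd D a → ∀ z : MonoidAlgebra k G, IsCentralElt z → proj k D z = 0 →
        (der D a z).coeff (g : G ⧸ D) = 0 := by
    intro g hg hgC a ha z hz hy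
    refine coeff_der_eq_zero hDc hexp ?_ ha hz hy
    obtain ⟨u, hu⟩ := not_forall.1 (mt (hC g).2 hgC)
    have hu1 : comm u g ≠ 1 := fun h => hu (inv_mul_eq_one.1 h).symm
    rcases eq_or_ne p 2 with hp | hp
    swap
    · exact Or.inl ⟨hp, u, hu1⟩
    refine Or.inr ?_
    by_contra hno
    push Not at hno
    refine hu (htwo hp g hg (fun w => ?_) u)
    have hone : ∀ w : D, comm w g ≠ 1 → comm w g = comm u g := fun w hw => by
      by_contra hne
      exact hno u w hu1 hw (Ne.symm hne) hp
    have hinv : ∀ w : D, w⁻¹ = w := fun w => inv_eq_of_mul_eq_one_left (by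
      rw [← sq, ← hexp w, hp])
    have hv : MulAut.conjNormal g (comm u g) = comm u g := by
      by_cases h : comm (comm u g) g = 1
      · exact (inv_mul_eq_one.1 h).symm
      · have h2 := hone _ h
        exfalso
        rw [comm, inv_mul_eq_iff_eq_mul, ← sq] at h2
        have h3 : MulAut.conjNormal g (comm u g) = 1 := by rw [h2, ← hexp (comm u g), hp]
        exact hu1 (by simpa using h3)
    have hw : ∀ w : D, MulAut.conjNormal g w = w * comm w g := fun w => by
      rw [comm, mul_inv_cancel_left]
    rw [map_mul, MulAut.mul_apply]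
    by_cases h : comm w g = 1
    · rw [(inv_mul_eq_one.1 h).symm, (inv_mul_eq_one.1 h).symm]
    · rw [hw w, map_mul, hw w, hone w h, hv, mul_assoc, ← sq,
        show (comm u g) ^ 2 = 1 from hp ▸ hexp _, mul_one]
  -- the truncations to `C`
  have hfixC : ∀ (a : D → k), IsAdd D a → ∀ z : MonoidAlgebra k G, IsCentralElt z →
      proj k D z = 0 → der D a z ∈ fixedBy k C := by
    intro a ha z hz hy
    refine BrauerPairs.mem_fixedBy_iff_coeff.2 fun c hc q => ?_
    obtain ⟨c, rfl⟩ := QuotientGroup.mk_surjective c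
    obtain ⟨g, rfl⟩ := QuotientGroup.mk_surjective q
    rw [show (c : G ⧸ D) * (g : G ⧸ D) * (c : G ⧸ D)⁻¹ = ((c * g * c⁻¹ : G) : G ⧸ D) by simp,
      coeff_der_conj ha hz hy]
    rw [show conjFn a c = a from funext fun u => by rw [conjFn, (hC c).1 hc u]]
  have hsand : ∀ (a : D → k), IsAdd D a → ∀ z : MonoidAlgebra k G, IsCentralElt z →
      proj k D z = 0 → f * der D a z * f = trunc (C : Set (G ⧸ D)) (der D a z) * f := by
    intro a ha z hz hy
    have h1 : trunc (C : Set (G ⧸ D)) (der D a z) * f = f * trunc (C : Set (G ⧸ D)) (der D a z) * f := by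
      rw [BrauerPairs.centerIn_commute hf.mem.1 (trunc_mem_centerIn C (hfixC a ha z hz hy)).2,
        mul_assoc, hf.idem]
    rw [h1, eq_sum_single (der D a z), map_sum, Finset.mul_sum, Finset.sum_mul, Finset.mul_sum,
      Finset.sum_mul]
    refine Finset.sum_congr rfl fun q _ => ?_
    by_cases hq : q ∈ C
    · congr 2
      refine alg_ext fun r => ?_
      rw [BrauerPairs.coeff_trunc]
      split_ifs with hr
      · rfl
      · rw [MonoidAlgebra.coeff_single, Finsupp.single_eq_of_ne]
        rintro rfl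
        exact hr hq
    have e0 : trunc (C : Set (G ⧸ D)) (MonoidAlgebra.single q ((der D a z).coeff q)) = 0 := by
      refine alg_ext fun r => ?_
      rw [BrauerPairs.coeff_trunc]
      split_ifs with hr
      · rw [MonoidAlgebra.coeff_single, Finsupp.single_eq_of_ne]
        · simp
        rintro rfl
        exact hq hr
      · simp
    rw [e0, mul_zero, zero_mul]
    by_cases hfix : conjEl q f = f
    · obtain ⟨g, rfl⟩ := QuotientGroup.mk_surjective q
      rw [hoff g hfix hq a ha z hz hy]
      simp
    · rw [BrauerPairs.mul_single_conjEl, mul_assoc,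
        hf.mul_eq_zero_of_ne (BrauerPairs.conj_isBlockIdem_normal hf q⁻¹) ?_, mul_zero]
      intro h
      apply hfix
      conv_lhs => rw [h, ← BrauerPairs.conjEl_mul, mul_inv_cancel, BrauerPairs.conjEl_one]
  by_contra hne
  set v : D := d⁻¹ * MulAut.conjNormal x d
  have hv : v ≠ 1 := fun h => hne (inv_mul_eq_one.1 h).symm
  obtain ⟨a, ha, hav, -⟩ := exists_isAdd_separating (k := k) hDc hexp hv 1 (fun i => by rwa [one_pow])
  set a' := conjFn a x
  have ha' : IsAdd D a' := isAdd_conjFn ha x
  have hdiff : a' d - a d = 1 := by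
    rw [← hav, show a v = a d⁻¹ + a (MulAut.conjNormal x d) from ha _ _]
    have h1 : a d⁻¹ + a d = 0 := by
      have h0 := ha 1 1
      rw [mul_one] at h0
      rw [← ha, inv_mul_cancel]
      exact (left_eq_add.1 h0)
    show a _ - a d = _
    linear_combination -h1
  -- the element moved by `x`
  obtain ⟨l, hl'⟩ : ∃ l : MonoidAlgebra k G, proj k D l = f :=
    ⟨∑ q : G ⧸ D, MonoidAlgebra.single q.out (f.coeff q), by
      simp only [map_sum, proj_single, QuotientGroup.out_eq']
      exact (eq_sum_single f).symm⟩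
  set y := e * ((MonoidAlgebra.single (d : G) 1 - 1) * l) with hy
  have hye : e * y = y := by rw [hy, ← mul_assoc, hee]
  have hy0 : proj k D y = 0 := by
    rw [hy, map_mul, map_mul, map_sub, map_one, proj_single,
      (QuotientGroup.eq_one_iff (d : G)).2 d.2, ← MonoidAlgebra.one_def, sub_self, zero_mul, mul_zero]
  obtain ⟨n, z, b, hzb, hsum⟩ := hgen y hye hy0
  have hder : ∀ c : D → k, IsAdd D c → der D c y = c d • f := by
    intro c hc
    rw [hy, ← mul_assoc, (hec.commute _).eq, mul_assoc, der_single_sub_one_mul hc, map_mul, hl', hef]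
  set w : Fin n → MonoidAlgebra k (G ⧸ D) := fun i =>
    trunc (C : Set (G ⧸ D)) (f * proj k D (b i) * f)
  set s : (D → k) → Fin n → MonoidAlgebra k (G ⧸ D) := fun c i =>
    trunc (C : Set (G ⧸ D)) (der D c (z i)) * f
  have hscen : ∀ c, IsAdd D c → ∀ i, s c i ∈ centerIn k C := fun c hc i =>
    mul_mem (trunc_mem_centerIn C (hfixC c hc _ (hzb i).1 (hzb i).2)) hf.mem
  have heq : ∀ c : D → k, IsAdd D c → c d • f = ∑ i, s c i * w i := by
    intro c hc
    have h1 : c d • f = ∑ i, s c i * (f * proj k D (b i) * f) := by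
      calc c d • f = f * der D c y * f := by
            rw [hder c hc, mul_smul_comm, smul_mul_assoc, hf.idem, hf.idem]
        _ = ∑ i, f * (der D c (z i) * proj k D (b i)) * f := by
            rw [hsum, map_sum, Finset.mul_sum, Finset.sum_mul]
            exact Finset.sum_congr rfl fun i _ => by rw [der_mul hc (hzb i).2]
        _ = _ := by
            refine Finset.sum_congr rfl fun i _ => ?_
            have hcomm : f * der D c (z i) = f * der D c (z i) * f := by
              rw [mul_assoc f _ f, ← BrauerPairs.centerIn_commute hf.mem.1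
                (hfixC c hc _ (hzb i).1 (hzb i).2), ← mul_assoc, hf.idem]
            rw [← mul_assoc, hcomm, hsand c hc _ (hzb i).1 (hzb i).2]
            show _ = trunc (C : Set (G ⧸ D)) (der D c (z i)) * f * (f * proj k D (b i) * f)
            simp only [mul_assoc]
            rw [← mul_assoc f f, hf.idem]
    have h2 := congrArg (trunc (C : Set (G ⧸ D))) h1
    rw [map_sum] at h2
    have h3 : trunc (C : Set (G ⧸ D)) (c d • f) = c d • f := by
      rw [map_smul]
      congr 1
      refine alg_ext fun r => ?_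
      rw [BrauerPairs.coeff_trunc]
      split_ifs with hr
      · rfl
      · exact (hf.mem.1 r hr).symm
    rw [h3] at h2
    rw [h2]
    exact Finset.sum_congr rfl fun i _ => trunc_mul_left _ (hscen c hc i).1
  -- conjugation by `x` preserves the central character of `f`
  have hconj : ∀ i, trunc (C : Set (G ⧸ D)) (der D a' (z i)) =
      conjEl (x : G ⧸ D)⁻¹ (trunc (C : Set (G ⧸ D)) (der D a (z i))) := by
    intro i
    refine alg_ext fun q => ?_
    obtain ⟨g, rfl⟩ := QuotientGroup.mk_surjective q
    rw [BrauerPairs.coeff_conjEl, BrauerPairs.coeff_trunc, BrauerPairs.coeff_trunc, inv_inv]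
    have e : (x : G ⧸ D) * (g : G ⧸ D) * (x : G ⧸ D)⁻¹ = ((x * g * x⁻¹ : G) : G ⧸ D) := by simp
    have hmem : (x : G ⧸ D) * (g : G ⧸ D) * (x : G ⧸ D)⁻¹ ∈ C ↔ (g : G ⧸ D) ∈ C :=
      ⟨fun h => by simpa [mul_assoc] using ‹C.Normal›.conj_mem _ h (x : G ⧸ D)⁻¹,
        fun h => ‹C.Normal›.conj_mem _ h _⟩
    simp only [SetLike.mem_coe, hmem]
    rw [e, coeff_der_conj ha (hzb i).1 (hzb i).2 x g]
  set lam : Fin n → k := fun i => BrauerPairs.omega f (trunc (C : Set (G ⧸ D)) (der D a (z i)))
  have hnil : ∀ i, IsNilpotent (s a i - lam i • f) := fun i =>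
    hf.omega_spec (trunc_mem_centerIn C (hfixC a ha _ (hzb i).1 (hzb i).2))
  have hnil' : ∀ i, IsNilpotent (s a' i - lam i • f) := fun i => by
    have hx' : conjEl (x : G ⧸ D)⁻¹ f = f := by
      conv_lhs => rw [← hx, BrauerPairs.conjEl_inv_conjEl]
    have h := (hnil i).map (conjEl (k := k) (x : G ⧸ D)⁻¹)
    simp only [s, map_sub, map_mul, map_smul, hx', ← hconj] at h
    exact h
  set N : Fin n → MonoidAlgebra k (G ⧸ D) := fun i => s a' i - s a i
  have hN : ∀ i, N i ∈ centerIn k C := fun i => sub_mem (hscen a' ha' i) (hscen a ha i)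
  have hNn : ∀ i, IsNilpotent (N i) := fun i => by
    have hm : ∀ c, IsAdd D c → s c i - lam i • f ∈ centerIn k C := fun c hc =>
      sub_mem (hscen c hc i) (Subalgebra.smul_mem _ hf.mem _)
    have h := Commute.isNilpotent_sub
      (BrauerPairs.centerIn_commute (hm a' ha').1 (hm a ha).2) (hnil' i) (hnil i)
    rwa [sub_sub_sub_cancel_right] at h
  have hfN : f = ∑ i, N i * w i := by
    calc f = a' d • f - a d • f := by rw [← sub_smul, hdiff, one_smul]
      _ = _ := by
        rw [heq a' ha', heq a ha, ← Finset.sum_sub_distrib]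
        exact Finset.sum_congr rfl fun i _ => (sub_mul _ _ _).symm
  refine hf.ne_zero (eq_zero_of_eq_mul_sum N w hNn
    (fun i j => BrauerPairs.centerIn_commute (hN i).1 (hN j).2)
    (fun i j => (BrauerPairs.centerIn_commute (trunc_mem_suppIn C _) (hN i).2).symm) Finset.univ f
    (fun i => BrauerPairs.centerIn_commute (hN i).1 hf.mem.2) ?_)
  rw [← hfN, hf.idem]

end Core

end Cfsg.Agent.EqualDegree
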