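import Cfsg.Agent.Lib.Blocks.CyclicDefect.Traces
import Cfsg.Agent.Lib.Blocks.TwoChars
import Cfsg.Agent.Lib.BrauerPairs.MinimalRank
import Cfsg.Agent.Lib.Blocks.LocalRankTwo
import Cfsg.Agent.Lib.Blocks.Defect

/-!
# Group algebras over the residue field: dimensions, blocks of defect zero, the kernel of the map
to the quotient by a normal `p`-subgroup

* `finrank_range_mulLeft_blkG`: `dim kG e = Σ χ(1)²`;
* `card_le_finrank_centralPart`: `k(B) ≤ dim Z(kG) e`;
* `exists_matrixRep`: a block of defect zero is a full matrix algebra;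
* `isNilpotent_of_ker`: elements killed by `kG → k[G/D]` are nilpotent.
-/

set_option autoImplicit false
set_option linter.unusedSectionVars false
set_option linter.style.haveILetI false

namespace Cfsg.Agent.EqualDegree

open Cfsg MonoidAlgebra Cfsg.Agent.Blocks
open Cfsg.Agent.BrauerPairs (blkG coeff_blkG)
open scoped Classical

universe u

section Prelude

variable {G : Type u} [Group G] [Fintype G] {M : Ideal AlgInt} [M.IsMaximal]
  {B : Set (IrrCharacter G)}

theorem isCentralElt_blkG (B : Set (IrrCharacter G)) : IsCentralElt (blkG M B) :=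
  isCentralElt_redA (isCentralElt_blockIdem B)

theorem finrank_range_mulLeft_blkG (hB : IsPBlock M B) :
    Module.finrank (AlgInt ⧸ M)
      (LinearMap.range (LinearMap.mulLeft (AlgInt ⧸ M) (blkG M B))) =
      ∑ᶠ χ ∈ B, Char.degree χ ^ 2 := by
  have h := BrauerPairs.MinimalRank.rank_blkG_eq hB
  simp only [Blocks.charDegree_eq] at h
  rw [← h, Matrix.rank]
  set N : Matrix G G (AlgInt ⧸ M) := Matrix.of fun i j : G => (blkG M B).coeff (i * j⁻¹)
  let c := TwoChars.coordEquiv (k := AlgInt ⧸ M) (G := G)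
  have key : N.mulVecLin.comp c.toLinearMap =
      c.toLinearMap.comp (LinearMap.mulLeft (AlgInt ⧸ M) (blkG M B)) := by
    refine LinearMap.ext fun z => funext fun g => ?_
    show (N.mulVec fun x => z.coeff x) g = (blkG M B * z).coeff g
    rw [coeff_mul_eq_sum']
    rfl
  rw [← LinearEquiv.finrank_map_eq c, ← LinearMap.range_comp, ← key, LinearMap.range_comp,
    LinearMap.range_eq_top.2 c.surjective, Submodule.map_top]

variable (M) in
/-- The central elements inside a block. -/
noncomputable def centralPart (B : Set (IrrCharacter G)) :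
    Submodule (AlgInt ⧸ M) (MonoidAlgebra (AlgInt ⧸ M) G) where
  carrier := {z | IsCentralElt z ∧ blkG M B * z = z}
  zero_mem' := ⟨isCentralElt_zero, mul_zero _⟩
  add_mem' := fun {a b} ha hb => ⟨ha.1.add hb.1, by rw [mul_add, ha.2, hb.2]⟩
  smul_mem' := fun c a ha => ⟨ha.1.smul c, by rw [mul_smul_comm, ha.2]⟩

theorem card_le_finrank_centralPart {p : ℕ} [Fact p.Prime] (hpM : (p : AlgInt) ∈ M)
    (hB : IsPBlock M B) :
    Nat.card B ≤ Module.finrank (AlgInt ⧸ M) (centralPart M B) := by
  have hpM' : ∃ p : ℕ, p.Prime ∧ (p : AlgInt) ∈ M := ⟨p, Fact.out, hpM⟩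
  have hEC : IsIdempotentElem ((TwoChars.classMat hB).map (localInt M).subtype) := by
    rw [TwoChars.classMat_map_val hpM' hB, IsIdempotentElem, Matrix.mul_assoc,
      ← Matrix.mul_assoc (TwoChars.coordMat B), TwoChars.coordMat_mul_valMat, Matrix.one_mul]
  have hE : IsIdempotentElem (TwoChars.classMat hB) := by
    ext K L : 1
    apply Subtype.val_injective
    have := congrFun (congrFun hEC.eq K) L
    rw [← Matrix.map_mul] at this
    simpa using this
  have hrank : ((TwoChars.classMat hB).map (redHom M)).rank = Nat.card B := by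
    rw [rank_map_redHom_of_isIdempotentElem hE]
    have h := rank_eq_trace hEC
    rw [TwoChars.classMat_map_val hpM' hB, Matrix.trace_mul_comm, TwoChars.coordMat_mul_valMat,
      Matrix.trace_one, ← Nat.card_eq_fintype_card] at h
    rw [TwoChars.classMat_map_val hpM' hB]
    exact_mod_cast h
  rw [← hrank, Matrix.rank]
  let ev : MonoidAlgebra (AlgInt ⧸ M) G →ₗ[AlgInt ⧸ M] (ConjClasses G → AlgInt ⧸ M) :=
    { toFun := fun z K => z.coeff (TwoChars.rep K)⁻¹
      map_add' := fun a b => funext fun K => by simp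
      map_smul' := fun c a => funext fun K => by simp }
  refine le_trans (Submodule.finrank_mono ?_)
    (Submodule.finrank_map_le ev (centralPart M B))
  rw [Matrix.range_mulVecLin, Submodule.span_le]
  rintro _ ⟨L, rfl⟩
  refine ⟨blkG M B * classSum (AlgInt ⧸ M) (TwoChars.rep L)⁻¹,
    ⟨(isCentralElt_blkG B).mul (isCentralElt_classSum _), ?_⟩, funext fun K => ?_⟩
  · rw [← mul_assoc, BrauerPairs.blkG_mul_self hB]
  show (blkG M B * classSum (AlgInt ⧸ M) (TwoChars.rep L)⁻¹).coeff (TwoChars.rep K)⁻¹ = _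
  rw [coeff_mul_eq_sum']
  show _ = red M (∑ h : G, if IsConj (TwoChars.rep L) h then
    blockCoeff B (h * (TwoChars.rep K)⁻¹) else 0)
  rw [red_sum _ fun h _ => by
    split_ifs
    · exact memLocalRing_blockCoeff hB _
    · exact memLocalRing_zero]
  refine Fintype.sum_equiv (Equiv.inv G) _ _ fun h => ?_
  have hiff : IsConj (TwoChars.rep L)⁻¹ h ↔ IsConj (TwoChars.rep L) h⁻¹ := by
    rw [isConj_iff, isConj_iff]
    refine exists_congr fun c => ⟨fun e => ?_, fun e => ?_⟩
    · rw [← e]; group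
    · rw [← inv_inv h, ← e]; group
  simp only [Equiv.inv_apply, coeff_classSum, coeff_blkG]
  by_cases hh : IsConj (TwoChars.rep L)⁻¹ h
  · rw [if_pos hh, if_pos (hiff.1 hh), mul_one,
      ← BrauerPairs.blockCoeff_conj B ((TwoChars.rep K)⁻¹ * h⁻¹) (h⁻¹)]
    congr 2
    group
  · rw [if_neg hh, if_neg (mt hiff.2 hh), mul_zero, red_zero]

variable {p : ℕ} [hp : Fact p.Prime] [CharP (AlgInt ⧸ M) p]

set_option maxHeartbeats 1000000 in
set_option synthInstance.maxHeartbeats 200000 in
/-- A block of defect zero is a full matrix algebra over the residue field. -/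
theorem exists_matrixRep (hpM : (p : AlgInt) ∈ M) (χ : IrrCharacter G)
    (hdeg : (Char.degree χ).factorization p = (Nat.card G).factorization p) :
    ∃ π : MonoidAlgebra (AlgInt ⧸ M) G →ₐ[AlgInt ⧸ M]
        Matrix (Fin (Char.degree χ)) (Fin (Char.degree χ)) (AlgInt ⧸ M),
      Function.Surjective π ∧ π (blkG M ({χ} : Set (IrrCharacter G))) = 1 ∧
        ∀ y, π y = 0 → blkG M ({χ} : Set (IrrCharacter G)) * y = 0 := by
  haveI := isAlgClosed_residue (M := M)
  haveI : FiniteDimensional (AlgInt ⧸ M) (MonoidAlgebra (AlgInt ⧸ M) G) := TwoChars.moduleFinite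
  have hB : IsPBlock M ({χ} : Set (IrrCharacter G)) := by
    rw [← (blockOf_eq_singleton_iff hpM χ).2 hdeg]
    exact isPBlock_blockOf χ
  set e₀ := blkG M ({χ} : Set (IrrCharacter G)) with he₀
  have hec : ∀ x, Commute e₀ x := IsCentralElt.commute (isCentralElt_blkG _)
  have he : IsIdempotentElem e₀ := BrauerPairs.blkG_mul_self hB
  have hfil : ∀ (F : IrrCharacter G → AlgInt ⧸ M) (d : DecidablePred (· ∈ ({χ} : Set (IrrCharacter G)))),
      ∑ x ∈ @Finset.filter _ (· ∈ ({χ} : Set (IrrCharacter G))) d Finset.univ, F x = F χ := by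
    intro F d
    rw [Finset.sum_filter, Finset.sum_eq_single χ (fun x _ hx => if_neg (by simpa using hx))
      (by simp), if_pos (Set.mem_singleton χ)]
  let τ : MonoidAlgebra (AlgInt ⧸ M) G →ₗ[AlgInt ⧸ M] AlgInt ⧸ M :=
    { toFun := fun z => ∑ g, z.coeff g * red M (χ.1 g)
      map_add' := fun a b => by simp [add_mul, Finset.sum_add_distrib]
      map_smul' := fun c a => by simp [Finset.mul_sum, mul_assoc] }
  have hτ : ∀ g, τ (MonoidAlgebra.single g 1) = red M (χ.1 g) := fun g => by
    show ∑ x, (MonoidAlgebra.single g (1 : AlgInt ⧸ M)).coeff x * red M (χ.1 x) = _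
    rw [Finset.sum_eq_single g (fun x _ hx => by simp [hx.symm]) (by simp)]
    simp
  have hVtr : ∀ (m : ℕ) (π : MonoidAlgebra (AlgInt ⧸ M) G →ₐ[AlgInt ⧸ M]
      Matrix (Fin m) (Fin m) (AlgInt ⧸ M)), π e₀ = 1 →
      LocalRankTwo.trFun π ∈ Submodule.span (AlgInt ⧸ M) {τ} := by
    intro m π hπ
    let ρ : Representation (AlgInt ⧸ M) G (Fin m → AlgInt ⧸ M) :=
      (MonoidAlgebra.lift (AlgInt ⧸ M) (Module.End (AlgInt ⧸ M) (Fin m → AlgInt ⧸ M)) G).symm
        ((Matrix.toLinAlgEquiv' (R := AlgInt ⧸ M) (n := Fin m)).toAlgHom.comp π)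
    have hρ : ρ.asAlgebraHom = (Matrix.toLinAlgEquiv' (R := AlgInt ⧸ M)).toAlgHom.comp π :=
      Equiv.apply_symm_apply _ _
    obtain ⟨c, hc⟩ := CyclicDefect.exists_trace_combination_block p hB ρ
      (by rw [hρ]; simp [← he₀, hπ])
    refine Submodule.mem_span_singleton.2 ⟨c χ, TwoChars.lin_ext fun g => ?_⟩
    have h := hc g
    rw [hfil] at h
    rw [LinearMap.smul_apply, hτ, smul_eq_mul, ← h]
    show LinearMap.trace (AlgInt ⧸ M) _ (Matrix.toLin' (π (MonoidAlgebra.single g 1))) = _
    rw [Matrix.trace_toLin'_eq]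
    rfl
  obtain ⟨m, π, hm, hsurj, hπe, -⟩ := LocalRankTwo.exists_simple_quotient he
    (BrauerPairs.blkG_ne_zero hB) hec
    (show Module.finrank (AlgInt ⧸ M) (Submodule.span (AlgInt ⧸ M) {τ}) ≤ 1 from
      (finrank_span_le_card _).trans (by simp)) hVtr
  obtain ⟨c, hc⟩ := Submodule.mem_span_singleton.1 (hVtr m π hπe)
  have hc0 : c ≠ 0 := fun h0 => by
    rw [h0, zero_smul] at hc
    haveI : Nonempty (Fin m) := ⟨⟨0, hm⟩⟩
    obtain ⟨a, ha⟩ := hsurj (Matrix.single ⟨0, hm⟩ ⟨0, hm⟩ 1)
    have := LinearMap.congr_fun hc a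
    rw [LinearMap.zero_apply] at this
    change (0 : AlgInt ⧸ M) = Matrix.trace (π a) at this
    rw [ha, Matrix.trace_single_eq_same] at this
    exact zero_ne_one this
  -- the idempotent through the character
  set u : ℂ := (Char.degree χ : ℂ) / (Nat.card G : ℕ)
  have hu : MemLocalRing M u :=
    memLocalRing_natCast_div hpM (Char.degree_pos χ).ne' Nat.card_pos.ne' (le_of_eq hdeg.symm)
  have hinj : ∀ y, π y = 0 → e₀ * y = 0 := by
    intro y hy
    have hy' : π (e₀ * y) = 0 := by rw [map_mul, hy, mul_zero]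
    refine alg_ext fun g => ?_
    have h0 : τ (MonoidAlgebra.single g⁻¹ 1 * y) = 0 := by
      have h1 : Matrix.trace (π (MonoidAlgebra.single g⁻¹ 1 * y)) = 0 := by
        rw [map_mul, hy, mul_zero, Matrix.trace_zero]
      have h2 : (c • τ) (MonoidAlgebra.single g⁻¹ 1 * y) = 0 := by rw [hc]; exact h1
      rw [LinearMap.smul_apply, smul_eq_mul, mul_eq_zero] at h2
      exact h2.resolve_left hc0
    rw [(hec y).eq, coeff_mul_eq_sum, MonoidAlgebra.coeff_zero, Finsupp.zero_apply]
    have hcoef : ∀ x : G, e₀.coeff x = red M u * red M (χ.1 x⁻¹) := fun x => by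
      rw [he₀, coeff_blkG, blockCoeff, finsum_mem_singleton,
        Char.IsCharacter.conj_apply (Char.irr_isCharacter χ), Char.apply_one_eq_degree,
        ← red_mul hu (memLocalRing_irr χ _)]
      congr 1
      simp only [u]
      ring
    have h1 : ∀ x : G, y.coeff x * e₀.coeff (x⁻¹ * g) =
        red M u * ((MonoidAlgebra.single g⁻¹ (1 : AlgInt ⧸ M) * y).coeff (g⁻¹ * x) *
          red M (χ.1 (g⁻¹ * x))) := fun x => by
      rw [hcoef, coeff_single_mul', one_mul, inv_inv, mul_inv_cancel_left, mul_inv_rev, inv_inv]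
      ring
    rw [Finset.sum_congr rfl fun x _ => h1 x, ← Finset.mul_sum]
    have h2 := h0
    change ∑ x, (MonoidAlgebra.single g⁻¹ (1 : AlgInt ⧸ M) * y).coeff x * red M (χ.1 x) = 0 at h2
    have h3 := Equiv.sum_comp (Equiv.mulLeft g⁻¹)
      (fun x => (MonoidAlgebra.single g⁻¹ (1 : AlgInt ⧸ M) * y).coeff x * red M (χ.1 x))
    simp only [Equiv.coe_mulLeft] at h3
    rw [h3, h2, mul_zero]
  have hm2 : m = Char.degree χ := by
    have hdim : Module.finrank (AlgInt ⧸ M)
        (LinearMap.range (LinearMap.mulLeft (AlgInt ⧸ M) e₀)) = Char.degree χ ^ 2 := by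
      rw [he₀, finrank_range_mulLeft_blkG hB, finsum_mem_singleton]
    set S := LinearMap.range (LinearMap.mulLeft (AlgInt ⧸ M) e₀)
    have hb : Function.Bijective (π.toLinearMap.domRestrict S) := by
      refine ⟨(injective_iff_map_eq_zero _).2 fun z hz => Subtype.ext ?_, fun A => ?_⟩
      · obtain ⟨_, y, rfl⟩ := z
        have h1 : e₀ * (e₀ * y) = 0 := hinj _ hz
        rwa [← mul_assoc, he.eq] at h1
      · obtain ⟨a, rfl⟩ := hsurj A
        exact ⟨⟨e₀ * a, a, rfl⟩, by
          show π (e₀ * a) = π a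
          rw [map_mul, hπe, one_mul]⟩
    have h3 := (LinearEquiv.ofBijective _ hb).finrank_eq
    rw [hdim, Module.finrank_matrix, Module.finrank_self, mul_one, Fintype.card_fin, ← sq] at h3
    exact (Nat.pow_left_injective two_ne_zero h3).symm
  subst hm2
  exact ⟨π, hsurj, hπe, hinj⟩

end Prelude

end Cfsg.Agent.EqualDegree
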