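import Cfsg.Agent.Lib.Blocks.GroupAlgebra
import Mathlib.Algebra.MonoidAlgebra.Lift
import Mathlib.RingTheory.Jacobson.Radical
import Mathlib.GroupTheory.PGroup
import Mathlib.GroupTheory.QuotientGroup.Defs
import Mathlib.LinearAlgebra.Dual.Lemmas
import Mathlib.Algebra.Module.ZMod
import Mathlib.Algebra.CharP.Lemmas
import Mathlib.Algebra.Field.ZMod
import Mathlib.RingTheory.Ideal.Maximal

/-!
# The first derived map on the kernel of `kG → k[G/D]`

For a normal abelian subgroup `D` and an additive map `a : D → k`, `der a` sends an element `y`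
of the kernel to the element of `k[G/D]` whose coefficient at `gD` is `Σ_d y(dg) a(d)`.
-/

set_option autoImplicit false
set_option linter.unusedSectionVars false
set_option linter.style.haveILetI false

namespace Cfsg.Agent.EqualDegree

open MonoidAlgebra Cfsg.Agent.Blocks
open scoped Classical

variable {G : Type*} [Group G] [Fintype G] {k : Type*} [Field k] (D : Subgroup G) [D.Normal]

variable (k) in
/-- The projection to the algebra of the quotient. -/
noncomputable def proj : MonoidAlgebra k G →ₐ[k] MonoidAlgebra k (G ⧸ D) :=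
  MonoidAlgebra.mapDomainAlgHom k k (QuotientGroup.mk' D)

theorem proj_single (g : G) (r : k) :
    proj k D (MonoidAlgebra.single g r) = MonoidAlgebra.single (g : G ⧸ D) r := by
  simp [proj]

/-- Additive maps on `D`. -/
def IsAdd (a : D → k) : Prop := ∀ u v : D, a (u * v) = a u + a v

variable {D}

theorem coset_iff (g h : G) (u : D) : ((u : G) * g = h) ↔ ((u : G) = h * g⁻¹) :=
  eq_mul_inv_iff_mul_eq.symm

theorem mk_eq_iff (g h : G) : (h : G ⧸ D) = (g : G ⧸ D) ↔ h * g⁻¹ ∈ D := by
  rw [QuotientGroup.eq, Subgroup.Normal.mem_comm_iff ‹D.Normal›]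
  constructor
  · intro e
    simpa using inv_mem e
  · intro e
    simpa using inv_mem e

theorem sum_single_coset (x g : G) (r : k) (a : D → k) :
    ∑ u : D, (MonoidAlgebra.single x r).coeff ((u : G) * g) * a u =
      if h : x * g⁻¹ ∈ D then r * a ⟨x * g⁻¹, h⟩ else 0 := by
  split_ifs with h
  · rw [Finset.sum_eq_single (⟨x * g⁻¹, h⟩ : D)]
    · simp
    · intro u _ hu
      rw [MonoidAlgebra.coeff_single, Finsupp.single_eq_of_ne, zero_mul]
      intro e
      exact hu (Subtype.ext ((coset_iff g x u).1 e))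
    · exact fun e => absurd (Finset.mem_univ _) e
  · refine Finset.sum_eq_zero fun u _ => ?_
    rw [MonoidAlgebra.coeff_single, Finsupp.single_eq_of_ne, zero_mul]
    intro e
    exact h ((coset_iff g x u).1 e ▸ u.2)

theorem coeff_proj (y : MonoidAlgebra k G) (g : G) :
    (proj k D y).coeff (g : G ⧸ D) = ∑ u : D, y.coeff ((u : G) * g) := by
  rw [eq_sum_single y, map_sum]
  simp only [MonoidAlgebra.coeff_sum, Finsupp.finsetSum_apply]
  rw [Finset.sum_comm (s := (Finset.univ : Finset D))]
  refine Finset.sum_congr rfl fun x _ => ?_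
  rw [proj_single]
  have h := sum_single_coset (D := D) x g (y.coeff x) (fun _ => (1 : k))
  simp only [mul_one] at h
  rw [h]
  split_ifs with hx
  · rw [(mk_eq_iff g x).2 hx]
    simp
  · rw [MonoidAlgebra.coeff_single, Finsupp.single_eq_of_ne]
    exact fun e => hx ((mk_eq_iff g x).1 e.symm)

theorem sum_eq_zero_of_ker {y : MonoidAlgebra k G} (hy : proj k D y = 0) (g : G) :
    ∑ u : D, y.coeff ((u : G) * g) = 0 := by
  rw [← coeff_proj, hy]
  simp

variable (D) in
/-- The derived map. -/
noncomputable def der (a : D → k) : MonoidAlgebra k G →ₗ[k] MonoidAlgebra k (G ⧸ D) where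
  toFun y := ofFun fun q => ∑ u : D, y.coeff ((u : G) * q.out) * a u
  map_add' y z := alg_ext fun q => by simp [add_mul, Finset.sum_add_distrib]
  map_smul' c y := alg_ext fun q => by simp [Finset.mul_sum, mul_assoc]

theorem coeff_der {a : D → k} (ha : IsAdd D a) {y : MonoidAlgebra k G} (hy : proj k D y = 0)
    (g : G) : (der D a y).coeff (g : G ⧸ D) = ∑ u : D, y.coeff ((u : G) * g) * a u := by
  show (ofFun fun q : G ⧸ D => ∑ u : D, y.coeff ((u : G) * q.out) * a u).coeff _ = _
  rw [coeff_ofFun]
  have hv : (g : G ⧸ D).out * g⁻¹ ∈ D := (mk_eq_iff g _).1 (QuotientGroup.out_eq' _)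
  set v : D := ⟨_, hv⟩
  have hout : (g : G ⧸ D).out = (v : G) * g := by simp [v]
  rw [hout]
  have h := Equiv.sum_comp (Equiv.mulRight v) (fun u : D => y.coeff ((u : G) * g) * a u)
  simp only [Equiv.coe_mulRight, ha _ v, mul_add, Finset.sum_add_distrib, ← Finset.sum_mul] at h
  have h0 : ∑ u : D, y.coeff (((u * v : D) : G) * g) = 0 := by
    rw [← sum_eq_zero_of_ker hy g]
    exact Equiv.sum_comp (Equiv.mulRight v) (fun u : D => y.coeff ((u : G) * g))
  rw [h0, zero_mul, add_zero] at h
  rw [← h]
  refine Finset.sum_congr rfl fun u _ => ?_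
  congr 2
  simp [v, mul_assoc]

theorem proj_mul_single_zero {y : MonoidAlgebra k G} (hy : proj k D y = 0)
    (b : MonoidAlgebra k G) : proj k D (y * b) = 0 := by rw [map_mul, hy, zero_mul]

theorem der_mul {a : D → k} (ha : IsAdd D a) {y : MonoidAlgebra k G} (hy : proj k D y = 0)
    (b : MonoidAlgebra k G) : der D a (y * b) = der D a y * proj k D b := by
  rw [eq_sum_single b, Finset.mul_sum, map_sum, map_sum, Finset.mul_sum]
  refine Finset.sum_congr rfl fun x _ => ?_
  refine alg_ext fun q => ?_
  obtain ⟨g, rfl⟩ := QuotientGroup.mk_surjective q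
  rw [coeff_der ha (proj_mul_single_zero hy _), proj_single, coeff_mul_single', ← QuotientGroup.mk_inv,
    ← QuotientGroup.mk_mul, coeff_der ha hy, Finset.sum_mul]
  exact Finset.sum_congr rfl fun u _ => by rw [coeff_mul_single', mul_assoc (u : G)]; ring

theorem der_single_sub_one_mul {a : D → k} (ha : IsAdd D a) (d : D) (l : MonoidAlgebra k G) :
    der D a ((MonoidAlgebra.single (d : G) 1 - 1) * l) = a d • proj k D l := by
  have hy : proj k D ((MonoidAlgebra.single (d : G) 1 - 1) * l) = 0 := by
    rw [map_mul, map_sub, map_one, proj_single, (QuotientGroup.eq_one_iff (d : G)).2 d.2,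
      ← MonoidAlgebra.one_def, sub_self, zero_mul]
  refine alg_ext fun q => ?_
  obtain ⟨g, rfl⟩ := QuotientGroup.mk_surjective q
  rw [coeff_der ha hy, MonoidAlgebra.coeff_smul, Finsupp.smul_apply, coeff_proj, smul_eq_mul,
    Finset.mul_sum]
  have h := Equiv.sum_comp (Equiv.mulLeft d⁻¹) (fun u : D => l.coeff ((u : G) * g) * a (d * u))
  simp only [Equiv.coe_mulLeft, mul_inv_cancel_left] at h
  simp only [sub_mul, one_mul, MonoidAlgebra.coeff_sub, Finsupp.coe_sub, Pi.sub_apply,
    coeff_single_mul', Finset.sum_sub_distrib]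
  rw [show ∑ u : D, l.coeff ((d : G)⁻¹ * ((u : G) * g)) * a u =
      ∑ u : D, l.coeff (((d⁻¹ * u : D) : G) * g) * a u from Finset.sum_congr rfl fun u _ => by
    rw [Subgroup.coe_mul, Subgroup.coe_inv, mul_assoc], h, ← Finset.sum_sub_distrib]
  exact Finset.sum_congr rfl fun u _ => by rw [ha d u]; ring

/-- Conjugation acts on additive maps. -/
noncomputable def conjFn (a : D → k) (x : G) : D → k := fun u => a (MulAut.conjNormal x u)

theorem isAdd_conjFn {a : D → k} (ha : IsAdd D a) (x : G) : IsAdd D (conjFn a x) := fun u v => by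
  simp [conjFn, ha _ _]

theorem coeff_der_conj {a : D → k} (ha : IsAdd D a) {z : MonoidAlgebra k G} (hz : IsCentralElt z)
    (hy : proj k D z = 0) (x g : G) :
    (der D a z).coeff ((x * g * x⁻¹ : G) : G ⧸ D) = (der D (conjFn a x) z).coeff (g : G ⧸ D) := by
  rw [coeff_der ha hy, coeff_der (isAdd_conjFn ha x) hy,
    ← Equiv.sum_comp (MulAut.conjNormal (H := D) x).toEquiv]
  refine Finset.sum_congr rfl fun u _ => ?_
  show z.coeff (((MulAut.conjNormal x u : D) : G) * (x * g * x⁻¹)) * a (MulAut.conjNormal x u) = _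
  rw [MulAut.conjNormal_apply, show x * (u : G) * x⁻¹ * (x * g * x⁻¹) = x * ((u : G) * g) * x⁻¹ by
    group, hz]
  rfl

/-- The commutator of `d` and `g`. -/
noncomputable def comm (d : D) (g : G) : D := d⁻¹ * MulAut.conjNormal g d

/-- The quadratic relation between the derived maps of a central element. -/
theorem der_relation (hDc : ∀ u v : D, u * v = v * u) {a b : D → k} (ha : IsAdd D a)
    (hb : IsAdd D b) {z : MonoidAlgebra k G} (hz : IsCentralElt z) (hy : proj k D z = 0) (d : D)
    (g : G) :
    a (comm d g) * (der D b z).coeff (g : G ⧸ D) + b (comm d g) * (der D a z).coeff (g : G ⧸ D) = 0 := by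
  set v := comm d g with hv
  have hinv : ∀ u : D, z.coeff (((v * u : D) : G) * g) = z.coeff ((u : G) * g) := by
    intro u
    have e : ((v * u : D) : G) * g = ((d⁻¹ : D) : G) * (((u : D) : G) * g) * (((d⁻¹ : D) : G))⁻¹ := by
      rw [hv, comm, mul_assoc d⁻¹, hDc (MulAut.conjNormal g d) u, ← mul_assoc d⁻¹]
      simp only [Subgroup.coe_mul, Subgroup.coe_inv, MulAut.conjNormal_apply, inv_inv]
      group
    rw [e, hz]
  rw [coeff_der hb hy, coeff_der ha hy, Finset.mul_sum, Finset.mul_sum, ← Finset.sum_add_distrib]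
  have h := Equiv.sum_comp (Equiv.mulLeft v)
    (fun u : D => z.coeff ((u : G) * g) * (a u * b u))
  simp only [Equiv.coe_mulLeft, hinv, ha v, hb v] at h
  have h0 : ∑ u : D, z.coeff ((u : G) * g) * (a v * b v) = 0 := by
    rw [← Finset.sum_mul, sum_eq_zero_of_ker hy, zero_mul]
  rw [← sub_eq_zero] at h
  rw [← Finset.sum_sub_distrib] at h
  calc _ = ∑ u : D, ((z.coeff ((u : G) * g) * ((a v + a u) * (b v + b u)) -
        z.coeff ((u : G) * g) * (a u * b u)) - z.coeff ((u : G) * g) * (a v * b v)) :=
      Finset.sum_congr rfl fun u _ => by ring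
    _ = 0 := by rw [Finset.sum_sub_distrib, h, h0, sub_zero]

section Separation

variable {p : ℕ} [Fact p.Prime] [CharP k p]

/-- Additive maps separate an elementary abelian group. -/
theorem exists_isAdd_separating (hDc : ∀ u v : D, u * v = v * u) (hexp : ∀ u : D, u ^ p = 1)
    {v : D} (hv : v ≠ 1) (w : D) (hw : ∀ i : ℕ, v ≠ w ^ i) :
    ∃ a : D → k, IsAdd D a ∧ a v = 1 ∧ a w = 0 := by
  letI : CommGroup D := { (inferInstance : Group D) with mul_comm := hDc }
  haveI : Module (ZMod p) (Additive D) := AddCommGroup.zmodModule fun u => by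
    apply Additive.toMul.injective
    simpa using hexp u.toMul
  have hns : Additive.ofMul v ∉ Submodule.span (ZMod p) {Additive.ofMul w} := by
    rw [Submodule.mem_span_singleton]
    rintro ⟨c, hc⟩
    refine hw c.val ?_
    apply Additive.ofMul.injective
    rw [ofMul_pow, ← hc]
    conv_lhs => rw [← ZMod.natCast_zmod_val c]
    rw [Nat.cast_smul_eq_nsmul]
  obtain ⟨f, hfv, hfw⟩ := Submodule.exists_dual_map_eq_bot_of_notMem hns inferInstance
  have hfw' : f (Additive.ofMul w) = 0 := by
    rw [← Submodule.mem_bot (ZMod p), ← hfw]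
    exact Submodule.mem_map_of_mem (Submodule.subset_span rfl)
  let c : ZMod p →+* k := ZMod.castHom (dvd_refl p) k
  have hc : c (f (Additive.ofMul v)) ≠ 0 := fun h => hfv (c.injective (by rw [h, map_zero]))
  refine ⟨fun u => c (f (Additive.ofMul u)) / c (f (Additive.ofMul v)), fun u u' => ?_,
    div_self hc, by simp [hfw']⟩
  show c (f (Additive.ofMul (u * u'))) / _ = _
  rw [ofMul_mul, map_add, map_add, add_div]

/-- Where an element moves `D` enough, the derived maps of a central element vanish. -/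
theorem coeff_der_eq_zero (hDc : ∀ u v : D, u * v = v * u) (hexp : ∀ u : D, u ^ p = 1) {g : G}
    (hg : (p ≠ 2 ∧ ∃ d : D, comm d g ≠ 1) ∨
      ∃ d d' : D, comm d g ≠ 1 ∧ comm d' g ≠ 1 ∧ comm d g ≠ comm d' g ∧ p = 2)
    {a : D → k} (ha : IsAdd D a) {z : MonoidAlgebra k G} (hz : IsCentralElt z)
    (hy : proj k D z = 0) : (der D a z).coeff (g : G ⧸ D) = 0 := by
  rcases hg with ⟨hp, d, hd⟩ | ⟨d, d', hd, hd', hne, hp⟩
  · obtain ⟨b, hb, hb1, -⟩ := exists_isAdd_separating (k := k) hDc hexp hd 1
      (fun i => by rwa [one_pow])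
    have hbb := der_relation hDc hb hb hz hy d g
    rw [hb1, one_mul] at hbb
    have h2 : (2 : k) ≠ 0 := by
      rw [← Nat.cast_two, Ne, CharP.cast_eq_zero_iff k p,
        Nat.prime_dvd_prime_iff_eq Fact.out Nat.prime_two]
      exact hp
    have hb0 : (der D b z).coeff (g : G ⧸ D) = 0 := by
      rw [← two_mul] at hbb
      exact (mul_eq_zero.1 hbb).resolve_left h2
    have hab := der_relation hDc hb ha hz hy d g
    rwa [hb1, hb0, one_mul, mul_zero, add_zero] at hab
  · have hpow : ∀ u u' : D, u ≠ 1 → u ≠ u' → ∀ i : ℕ, u ≠ u' ^ i := by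
      intro u u' h1 h2 i
      rw [← Nat.div_add_mod i 2, pow_add, pow_mul, ← hp, hexp, one_pow, one_mul, hp]
      rcases Nat.mod_two_eq_zero_or_one i with h | h <;> rw [h]
      · rwa [pow_zero]
      · rwa [pow_one]
    obtain ⟨b, hb, hb1, hb2⟩ :=
      exists_isAdd_separating (k := k) hDc hexp hd _ (hpow _ _ hd hne)
    obtain ⟨c, hc, hc1, hc2⟩ :=
      exists_isAdd_separating (k := k) hDc hexp hd' _ (hpow _ _ hd' hne.symm)
    have hbc := der_relation hDc hb hc hz hy d g
    rw [hb1, hc2, one_mul, zero_mul, add_zero] at hbc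
    have hbc' := der_relation hDc hc hb hz hy d' g
    rw [hc1, hb2, one_mul, zero_mul, add_zero] at hbc'
    have hab := der_relation hDc hb ha hz hy d g
    rwa [hb1, hbc', one_mul, mul_zero, add_zero] at hab

end Separation

section Nilpotent

variable {p : ℕ} [Fact p.Prime] [CharP k p]

/-- The kernel of the projection modulo an abelian `p`-subgroup consists of nilpotent elements. -/
theorem ker_le_jacobson (hDc : ∀ u v : D, u * v = v * u) (hD : IsPGroup p D)
    {y : MonoidAlgebra k G} (hy : proj k D y = 0) :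
    y ∈ Ring.jacobson (MonoidAlgebra k G) := by
  haveI : CharP (MonoidAlgebra k G) p :=
    charP_of_injective_algebraMap (algebraMap k (MonoidAlgebra k G)).injective p
  rw [← Ideal.jacobson_bot, Ideal.jacobson, Submodule.mem_sInf]
  rintro (I : Ideal (MonoidAlgebra k G)) ⟨-, hI⟩
  let δ : D → MonoidAlgebra k G := fun u => MonoidAlgebra.single (u : G) 1 - 1
  have hδn : ∀ u, IsNilpotent (δ u) := fun u => by
    obtain ⟨j, hj⟩ := hD u
    refine ⟨p ^ j, ?_⟩
    rw [sub_pow_char_pow_of_commute p j (Commute.one_right _), one_pow, MonoidAlgebra.single_pow,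
      one_pow, ← Subgroup.coe_pow, hj, Subgroup.coe_one, ← MonoidAlgebra.one_def, sub_self]
  have hδc : ∀ u v, Commute (δ u) (δ v) := fun u v => by
    refine Commute.sub_left (Commute.sub_right ?_ (Commute.one_right _))
      (Commute.one_left _)
    show _ * _ = _ * _
    rw [MonoidAlgebra.single_mul_single, MonoidAlgebra.single_mul_single, ← Subgroup.coe_mul,
      ← Subgroup.coe_mul, hDc]
  -- a common annihilator
  have hfix : ∀ s : Finset D, ∃ r ∉ I, ∀ u ∈ s, δ u * r ∈ I := by
    intro s
    induction s using Finset.induction with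
    | empty => exact ⟨1, fun h => hI.ne_top (I.eq_top_iff_one.2 h), by simp⟩
    | @insert u s _ ih =>
      obtain ⟨r, hr, hrs⟩ := ih
      have hex : ∃ j, δ u ^ j * r ∈ I := by
        obtain ⟨j, hj⟩ := hδn u
        exact ⟨j, by rw [hj, zero_mul]; exact zero_mem I⟩
      obtain ⟨j, hj⟩ : ∃ j, Nat.find hex = j + 1 := by
        refine Nat.exists_eq_succ_of_ne_zero fun h => hr ?_
        have := Nat.find_spec hex
        rwa [h, pow_zero, one_mul] at this
      refine ⟨δ u ^ j * r, Nat.find_min hex (by omega), fun v hv => ?_⟩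
      rcases Finset.mem_insert.1 hv with rfl | hv
      · rw [← mul_assoc, ← pow_succ', ← hj]
        exact Nat.find_spec hex
      · rw [← mul_assoc, ((hδc v u).pow_right j).eq, mul_assoc]
        exact I.mul_mem_left _ (hrs v hv)
  let L : Ideal (MonoidAlgebra k G) :=
    { carrier := {r | ∀ u, δ u * r ∈ I}
      add_mem' := fun {a b} ha hb u => by rw [mul_add]; exact add_mem (ha u) (hb u)
      zero_mem' := fun u => by rw [mul_zero]; exact zero_mem I
      smul_mem' := fun c r hr u => by
        show δ u * (c * r) ∈ I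
        rw [eq_sum_single c, Finset.sum_mul, Finset.mul_sum]
        refine Submodule.sum_mem _ fun x _ => ?_
        have e : δ u * MonoidAlgebra.single x (c.coeff x) =
            MonoidAlgebra.single x (c.coeff x) * δ (MulAut.conjNormal x⁻¹ u) := by
          simp only [δ, sub_mul, mul_sub, one_mul, mul_one, MonoidAlgebra.single_mul_single,
            MulAut.conjNormal_apply, inv_inv]
          simp [mul_assoc]
        rw [← mul_assoc, e, mul_assoc]
        exact I.mul_mem_left _ (hr _) }
  have hIL : I ≤ L := fun r hr u => I.mul_mem_left _ hr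
  obtain ⟨r, hr, hrs⟩ := hfix Finset.univ
  have hL : L = ⊤ := hI.out.2 L (lt_of_le_of_ne hIL fun e =>
    hr (e ▸ (fun u => hrs u (Finset.mem_univ u)) : r ∈ I))
  have hδI : ∀ u, δ u ∈ I := fun u => by
    simpa using (hL ▸ Submodule.mem_top : (1 : MonoidAlgebra k G) ∈ L) u
  -- every element of the kernel is a combination of multiples of the `δ u`
  have key : y = ∑ g, y.coeff g • (MonoidAlgebra.single g 1 -
      MonoidAlgebra.single (g : G ⧸ D).out 1) := by
    have h0 : ∑ g, y.coeff g • MonoidAlgebra.single ((g : G ⧸ D).out) (1 : k) = 0 := by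
      have e : ∀ g, y.coeff g • MonoidAlgebra.single ((g : G ⧸ D).out) (1 : k) =
          MonoidAlgebra.mapDomain Quotient.out (MonoidAlgebra.single (g : G ⧸ D) (y.coeff g)) :=
        fun g => by simp [MonoidAlgebra.smul_single]
      rw [Finset.sum_congr rfl fun g _ => e g]
      have hs : ∑ g : G, MonoidAlgebra.single (g : G ⧸ D) (y.coeff g) = proj k D y := by
        conv_rhs => rw [eq_sum_single y, map_sum]
        simp only [proj_single]
      refine alg_ext fun x => ?_
      simp only [MonoidAlgebra.coeff_sum, MonoidAlgebra.coeff_mapDomain]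
      rw [← Finsupp.mapDomain_finsetSum, ← MonoidAlgebra.coeff_sum, hs, hy]
      simp
    simp only [smul_sub, Finset.sum_sub_distrib, h0, sub_zero]
    conv_lhs => rw [eq_sum_single y]
    simp [MonoidAlgebra.smul_single]
  rw [key]
  refine Submodule.sum_mem _ fun g _ => ?_
  rw [← smul_one_mul (M := k)]
  refine I.mul_mem_left _ ?_
  have hu : (g : G ⧸ D).out⁻¹ * g ∈ D := QuotientGroup.eq.1 (QuotientGroup.out_eq' _)
  have e : MonoidAlgebra.single g (1 : k) - MonoidAlgebra.single (g : G ⧸ D).out 1 =
      MonoidAlgebra.single (g : G ⧸ D).out 1 * δ ⟨_, hu⟩ := by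
    simp only [δ, mul_sub, mul_one, MonoidAlgebra.single_mul_single, mul_inv_cancel_left]
  rw [e]
  exact I.mul_mem_left _ (hδI _)

end Nilpotent

end Cfsg.Agent.EqualDegree
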