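import Cfsg.Agent.Lib.EqualDegree.Central
import Cfsg.Agent.Lib.EqualDegree.GroupAlgebra
import Cfsg.Agent.Lib.EqualDegree.Lambda
import Cfsg.Agent.Lib.Char.Descend
import Mathlib.RingTheory.Ideal.Quotient.Operations
import Mathlib.LinearAlgebra.Matrix.Reindex

/-!
# A block with normal abelian defect group and a single degree

* `proj_blkG`: the image of a block idempotent modulo a normal subgroup;
* `exists_central_generation`: if all members of a block have degree `n`, of full `p`-part modulo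
  `D`, then the part of the block killed by `kG → k[G/D]` is generated by central elements.
-/

set_option autoImplicit false
set_option linter.unusedSectionVars false
set_option linter.style.haveILetI false

namespace Cfsg.Agent.EqualDegree

open Cfsg MonoidAlgebra Cfsg.Agent.Blocks
open Cfsg.Agent.BrauerPairs (blkG coeff_blkG)
open scoped Classical ComplexConjugate

universe u

variable {G : Type u} [Group G] [Fintype G] {M : Ideal AlgInt} [M.IsMaximal]
  {B : Set (IrrCharacter G)} {p : ℕ} [hp : Fact p.Prime] [CharP (AlgInt ⧸ M) p]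
  {D : Subgroup G} [D.Normal]

theorem degree_inflate' (χ : IrrCharacter (G ⧸ D)) :
    Char.degree (Char.inflate D χ) = Char.degree χ := by
  have h := Char.apply_one_eq_degree (Char.inflate D χ)
  rw [Char.inflate_apply, QuotientGroup.mk_one, Char.apply_one_eq_degree] at h
  exact_mod_cast h.symm

variable (B D) in
/-- The characters of the quotient whose inflation lies in the block. -/
noncomputable def below [Fintype (IrrCharacter (G ⧸ D))] : Finset (IrrCharacter (G ⧸ D)) :=
  Finset.univ.filter fun χ => Char.inflate D χ ∈ B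

theorem mem_below [Fintype (IrrCharacter (G ⧸ D))] {χ : IrrCharacter (G ⧸ D)} :
    χ ∈ below B D ↔ Char.inflate D χ ∈ B := by simp [below]

theorem isPBlock_singleton (hpM : (p : AlgInt) ∈ M) {n : ℕ}
    (hn : n.factorization p = D.index.factorization p) {χ : IrrCharacter (G ⧸ D)}
    (hχ : Char.degree χ = n) : IsPBlock M ({χ} : Set (IrrCharacter (G ⧸ D))) := by
  rw [← (blockOf_eq_singleton_iff hpM χ).2 (by rw [hχ, hn]; rfl)]
  exact isPBlock_blockOf χ

set_option maxHeartbeats 1000000 in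
theorem proj_blkG [Fintype (IrrCharacter (G ⧸ D))] (hB : IsPBlock M B)
    (hbl : ∀ χ ∈ below B D, IsPBlock M ({χ} : Set (IrrCharacter (G ⧸ D)))) :
    proj (AlgInt ⧸ M) D (blkG M B) = ∑ χ ∈ below B D, blkG M ({χ} : Set (IrrCharacter (G ⧸ D))) := by
  haveI := Fintype.ofFinite (G ⧸ D)
  refine alg_ext fun q => ?_
  obtain ⟨g, rfl⟩ := QuotientGroup.mk_surjective q
  rw [coeff_proj, MonoidAlgebra.coeff_sum, Finsupp.finsetSum_apply,
    Finset.sum_congr rfl fun u _ => coeff_blkG B _, Finset.sum_congr rfl fun χ _ => coeff_blkG {χ} _,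
    ← red_sum _ fun u _ => memLocalRing_blockCoeff hB _,
    ← red_sum _ fun χ hχ => memLocalRing_blockCoeff (hbl χ hχ) _]
  congr 1
  rw [Finset.sum_congr rfl fun u _ => blockCoeff_eq_sum (A := B) _]
  simp only [blockCoeff, finsum_mem_singleton]
  rw [← Finset.mul_sum, Finset.sum_comm, ← Finset.mul_sum]
  have h2 : ∑ η ∈ Finset.univ.filter (· ∈ B), ∑ u : D, η.1 1 * conj (η.1 ((u : G) * g)) =
      (Nat.card D : ℂ) * ∑ χ ∈ below B D, χ.1 1 * conj (χ.1 (g : G ⧸ D)) := by
    rw [Finset.mul_sum, ← Finset.sum_filter_add_sum_filter_not (Finset.univ.filter (· ∈ B))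
      (fun η => Char.TrivOn D η.1)]
    have hz : ∑ η ∈ (Finset.univ.filter (· ∈ B)).filter (fun η => ¬ Char.TrivOn D η.1),
        ∑ u : D, η.1 1 * conj (η.1 ((u : G) * g)) = 0 := by
      refine Finset.sum_eq_zero fun η hη => ?_
      rw [← Finset.mul_sum, ← map_sum]
      have e : ∑ u : D, η.1 ((u : G) * g) = ∑ u : D, η.1 (g * u) :=
        Finset.sum_congr rfl fun u _ => by
          rw [show g * (u : G) = (u : G)⁻¹ * ((u : G) * g) * (u : G)⁻¹⁻¹ by group,
            irr_classFun η _ _]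
      rw [e, Char.sum_coset_eq_zero_of_not_trivOn D η (Finset.mem_filter.1 hη).2 g, map_zero,
        mul_zero]
    rw [hz, add_zero]
    symm
    refine Finset.sum_bij (fun χ _ => Char.inflate D χ) ?_ ?_ ?_ ?_
    · exact fun χ hχ => Finset.mem_filter.2
        ⟨Finset.mem_filter.2 ⟨Finset.mem_univ _, mem_below.1 hχ⟩, Char.trivOn_inflate D χ⟩
    · intro χ _ ψ _ e
      refine Subtype.ext (funext fun q => ?_)
      obtain ⟨x, rfl⟩ := QuotientGroup.mk_surjective q
      exact congrFun (congrArg Subtype.val e) x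
    · intro η hη
      obtain ⟨hη1, hη2⟩ := Finset.mem_filter.1 hη
      obtain ⟨χ, hχ⟩ := Char.exists_descend D η hη2
      refine ⟨χ, mem_below.2 ?_, Subtype.ext (funext hχ)⟩
      rw [show Char.inflate D χ = η from Subtype.ext (funext hχ)]
      exact (Finset.mem_filter.1 hη1).2
    · intro χ _
      simp only [Char.inflate_apply, QuotientGroup.mk_one, QuotientGroup.mk_mul,
        (QuotientGroup.eq_one_iff (_ : G)).2 (SetLike.coe_mem _), one_mul, Finset.sum_const,
        Finset.card_univ, nsmul_eq_mul, Nat.card_eq_fintype_card]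
  rw [h2, ← mul_assoc, Subgroup.card_eq_card_quotient_mul_card_subgroup D, Nat.cast_mul, mul_inv,
    mul_assoc ((Nat.card (G ⧸ D) : ℂ))⁻¹, inv_mul_cancel₀ (Nat.cast_ne_zero.2 Nat.card_pos.ne'),
    mul_one]

set_option maxHeartbeats 2000000 in
set_option synthInstance.maxHeartbeats 200000 in
/-- The augmentation part of the block is generated by central elements. -/
theorem exists_central_generation (hpM : (p : AlgInt) ∈ M) (hB : IsPBlock M B)
    (hDc : ∀ u v : D, u * v = v * u) (hDp : IsPGroup p D) {n : ℕ}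
    (hdeg : ∀ χ ∈ B, Char.degree χ = n) (hn : n.factorization p = D.index.factorization p)
    (y : MonoidAlgebra (AlgInt ⧸ M) G) (hey : blkG M B * y = y)
    (hy : proj (AlgInt ⧸ M) D y = 0) :
    ∃ (m : ℕ) (z b : Fin m → MonoidAlgebra (AlgInt ⧸ M) G),
      (∀ i, IsCentralElt (z i) ∧ proj (AlgInt ⧸ M) D (z i) = 0) ∧ y = ∑ i, z i * b i := by
  haveI := Fintype.ofFinite (G ⧸ D)
  haveI := Fintype.ofFinite (IrrCharacter (G ⧸ D))
  haveI : FiniteDimensional (AlgInt ⧸ M) (MonoidAlgebra (AlgInt ⧸ M) G) := TwoChars.moduleFinite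
  obtain ⟨χ₀, hχ₀⟩ := block_nonempty hB
  haveI : NeZero n := ⟨hdeg χ₀ hχ₀ ▸ (Char.degree_pos χ₀).ne'⟩
  set e := blkG M B
  have hee : e * e = e := BrauerPairs.blkG_mul_self hB
  have hec : ∀ x, Commute e x := IsCentralElt.commute (isCentralElt_blkG B)
  have hdeg' : ∀ χ ∈ below B D, Char.degree χ = n := fun χ hχ => by
    rw [← hdeg _ (mem_below.1 hχ), degree_inflate']
  have hbl : ∀ χ ∈ below B D, IsPBlock M ({χ} : Set (IrrCharacter (G ⧸ D))) :=
    fun χ hχ => isPBlock_singleton hpM hn (hdeg' χ hχ)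
  choose π hπs hπe hπk using fun χ : below B D =>
    exists_matrixRep (p := p) hpM χ.1 (by rw [hdeg' χ.1 χ.2, hn]; rfl)
  set E : below B D → MonoidAlgebra (AlgInt ⧸ M) (G ⧸ D) :=
    fun χ => blkG M ({χ.1} : Set (IrrCharacter (G ⧸ D)))
  have hortho : ∀ χ ψ, χ ≠ ψ → π χ (E ψ) = 0 := fun χ ψ h => by
    rw [← one_mul (π χ (E ψ)), ← hπe χ, ← map_mul, BrauerPairs.blkG_mul_eq_zero
      (hbl _ χ.2) (hbl _ ψ.2) (fun e => h (Subtype.ext (Set.singleton_injective e))), map_zero]
  let R : below B D → MonoidAlgebra (AlgInt ⧸ M) G →ₐ[AlgInt ⧸ M]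
      Matrix (Fin n) (Fin n) (AlgInt ⧸ M) := fun χ =>
    (Matrix.reindexAlgEquiv (AlgInt ⧸ M) (AlgInt ⧸ M) (finCongr (hdeg' χ.1 χ.2))).toAlgHom.comp
      ((π χ).comp (proj (AlgInt ⧸ M) D))
  set Φ₀ : MonoidAlgebra (AlgInt ⧸ M) G →ₐ[AlgInt ⧸ M]
      (below B D → Matrix (Fin n) (Fin n) (AlgInt ⧸ M)) := AlgHom.pi R
  have hprojE : proj (AlgInt ⧸ M) D e = ∑ χ : below B D, E χ := by
    rw [proj_blkG hB hbl]
    exact (Finset.sum_coe_sort (below B D) fun χ => blkG M ({χ} : Set (IrrCharacter (G ⧸ D)))).symm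
  have hΦe : Φ₀ e = 1 := funext fun χ => by
    show Matrix.reindexAlgEquiv (AlgInt ⧸ M) (AlgInt ⧸ M) (finCongr (hdeg' χ.1 χ.2)) (π χ (proj (AlgInt ⧸ M) D e)) = 1
    rw [hprojE, map_sum, Finset.sum_eq_single χ (fun ψ _ h => hortho χ ψ h.symm)
      (fun h => absurd (Finset.mem_univ χ) h), hπe, map_one]
  have hΦs : Function.Surjective Φ₀ := by
    intro A
    choose a ha using fun χ : below B D => hπs χ
      ((Matrix.reindexAlgEquiv (AlgInt ⧸ M) (AlgInt ⧸ M) (finCongr (hdeg' χ.1 χ.2))).symm (A χ))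
    refine ⟨∑ q : G ⧸ D, MonoidAlgebra.single q.out ((∑ ψ : below B D, E ψ * a ψ).coeff q),
      funext fun χ => ?_⟩
    show Matrix.reindexAlgEquiv (AlgInt ⧸ M) (AlgInt ⧸ M) (finCongr (hdeg' χ.1 χ.2)) (π χ (proj (AlgInt ⧸ M) D _)) = A χ
    rw [show proj (AlgInt ⧸ M) D (∑ q : G ⧸ D, MonoidAlgebra.single q.out
        ((∑ ψ : below B D, E ψ * a ψ).coeff q)) = ∑ ψ : below B D, E ψ * a ψ by
      rw [map_sum]
      simp only [proj_single, QuotientGroup.out_eq']
      exact (eq_sum_single _).symm]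
    rw [map_sum, Finset.sum_eq_single χ (fun ψ _ h => by rw [map_mul, hortho χ ψ h.symm, zero_mul])
      (fun h => absurd (Finset.mem_univ χ) h), map_mul, hπe, one_mul, ha, AlgEquiv.apply_symm_apply]
  have hker : ∀ v, Φ₀ v = 0 → proj (AlgInt ⧸ M) D (e * v) = 0 := fun v hv => by
    rw [map_mul, hprojE, Finset.sum_mul]
    refine Finset.sum_eq_zero fun χ _ => hπk χ _ ?_
    have h : Matrix.reindexAlgEquiv (AlgInt ⧸ M) (AlgInt ⧸ M) (finCongr (hdeg' χ.1 χ.2))
        (π χ (proj (AlgInt ⧸ M) D v)) = 0 := congrFun hv χ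
    rwa [map_eq_zero_iff _ (AlgEquiv.injective _)] at h
  -- the block algebra as a quotient
  let I : Ideal (MonoidAlgebra (AlgInt ⧸ M) G) :=
    { carrier := {v | e * v = 0}
      add_mem' := fun {a b} (ha : e * a = 0) (hb : e * b = 0) =>
        show e * (a + b) = 0 by rw [mul_add, ha, hb, add_zero]
      zero_mem' := mul_zero e
      smul_mem' := fun c a (ha : e * a = 0) =>
        show e * (c * a) = 0 by rw [← mul_assoc, (hec c).eq, mul_assoc, ha, mul_zero] }
  haveI : I.IsTwoSided := ⟨fun {a} b (ha : e * a = 0) =>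
    show e * (a * b) = 0 by rw [← mul_assoc, ha, zero_mul]⟩
  let mk := Ideal.Quotient.mkₐ (AlgInt ⧸ M) I
  have hmks : Function.Surjective mk := Ideal.Quotient.mkₐ_surjective _ _
  have hmk : ∀ v w, mk v = mk w ↔ e * v = e * w := fun v w => by
    show Ideal.Quotient.mk I v = Ideal.Quotient.mk I w ↔ _
    rw [Ideal.Quotient.eq]
    show e * (v - w) = 0 ↔ _
    rw [mul_sub, sub_eq_zero]
  let Φ := Ideal.Quotient.liftₐ I Φ₀ fun v (hv : e * v = 0) => by
    rw [← one_mul (Φ₀ v), ← hΦe, ← map_mul, hv, map_zero]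
  have hΦmk : ∀ v, Φ (mk v) = Φ₀ v := fun v => Ideal.Quotient.lift_mk I _ _
  haveI : FiniteDimensional (AlgInt ⧸ M) (MonoidAlgebra (AlgInt ⧸ M) G ⧸ I) :=
    Module.Finite.of_surjective mk.toLinearMap hmks
  have hA : Module.finrank (AlgInt ⧸ M) (MonoidAlgebra (AlgInt ⧸ M) G ⧸ I) ≤ n ^ 2 * Nat.card B := by
    have hs : Function.Surjective (mk.toLinearMap.domRestrict
        (LinearMap.range (LinearMap.mulLeft (AlgInt ⧸ M) e))) := fun v => by
      obtain ⟨v, rfl⟩ := hmks v
      exact ⟨⟨e * v, v, rfl⟩, (hmk (e * v) v).2 (by rw [← mul_assoc, hee])⟩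
    refine (LinearMap.finrank_le_finrank_of_surjective hs).trans (le_of_eq ?_)
    rw [finrank_range_mulLeft_blkG hB, finsum_mem_congr rfl fun χ hχ => by rw [hdeg χ hχ],
      finsum_mem_eq_toFinset_sum, Finset.sum_const, smul_eq_mul, mul_comm, Set.toFinset_card,
      ← Nat.card_eq_fintype_card]
  have hZ : Nat.card B ≤ Module.finrank (AlgInt ⧸ M)
      (Subalgebra.center (AlgInt ⧸ M) (MonoidAlgebra (AlgInt ⧸ M) G ⧸ I)) := by
    refine (card_le_finrank_centralPart hpM hB).trans ?_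
    let g : centralPart M B →ₗ[AlgInt ⧸ M]
        Subalgebra.toSubmodule (Subalgebra.center (AlgInt ⧸ M) (MonoidAlgebra (AlgInt ⧸ M) G ⧸ I)) :=
      (mk.toLinearMap.comp (centralPart M B).subtype).codRestrict _ fun z =>
        (Subalgebra.mem_center_iff (R := AlgInt ⧸ M)).2 fun v => by
          obtain ⟨v, rfl⟩ := hmks v
          show mk v * mk z.1 = mk z.1 * mk v
          rw [← map_mul, ← map_mul, (IsCentralElt.commute z.2.1 v).eq]
    refine LinearMap.finrank_le_finrank_of_injective (f := g) ?_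
    refine (injective_iff_map_eq_zero g).2 fun z hz => Subtype.ext ?_
    have h : mk z.1 = mk 0 := (congrArg Subtype.val hz).trans (map_zero mk).symm
    rw [hmk, z.2.2, mul_zero] at h
    exact h
  have hnil : ∀ x, Φ x = 0 → IsNilpotent x := by
    intro x hx
    obtain ⟨v, rfl⟩ := hmks x
    rw [hΦmk] at hx
    rw [(hmk v (e * v)).2 (by rw [← mul_assoc, hee])]
    exact (LocalRankTwo.isNilpotent_of_mem (AlgInt ⧸ M) (ker_le_jacobson hDc hDp (hker v hx))).map mk
  have hΦsurj : Function.Surjective Φ := fun A => by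
    obtain ⟨v, hv⟩ := hΦs A
    exact ⟨mk v, by rw [hΦmk, hv]⟩
  obtain ⟨z, b, hz, hsum⟩ := exists_eq_sum_central Φ hΦsurj hnil hA hZ (y := mk y) (by
    rw [hΦmk]
    funext χ
    show Matrix.reindexAlgEquiv (AlgInt ⧸ M) (AlgInt ⧸ M) (finCongr (hdeg' χ.1 χ.2)) (π χ (proj (AlgInt ⧸ M) D y)) = 0
    rw [hy, map_zero, map_zero])
  choose z' hz' using fun q : Fin (n * n) => hmks
    (z (finProdFinEquiv.symm q).1 (finProdFinEquiv.symm q).2)
  choose b' hb' using fun q : Fin (n * n) => hmks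
    (b (finProdFinEquiv.symm q).1 (finProdFinEquiv.symm q).2)
  refine ⟨n * n, fun q => e * z' q, b', fun q => ⟨?_, ?_⟩, ?_⟩
  · refine isCentralElt_iff_commute.2 fun a => ?_
    generalize MonoidAlgebra.single a (1 : AlgInt ⧸ M) = x
    have h := (Subalgebra.mem_center_iff.1 (hz (finProdFinEquiv.symm q).1 (finProdFinEquiv.symm q).2).1)
      (mk x)
    rw [← hz', ← map_mul, ← map_mul, hmk] at h
    show e * z' q * x = x * (e * z' q)
    rw [← mul_assoc x, ← (hec x).eq, mul_assoc, mul_assoc, h]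
  · refine hker _ ?_
    rw [← hΦmk, hz']
    exact (hz _ _).2
  · have h : mk y = mk (∑ q, z' q * b' q) := by
      rw [hsum, map_sum, ← finProdFinEquiv.sum_comp, Fintype.sum_prod_type]
      simp [map_mul, hz', hb']
    rw [hmk, hey, Finset.mul_sum] at h
    rw [h]
    exact Finset.sum_congr rfl fun q _ => (mul_assoc _ _ _).symm

end Cfsg.Agent.EqualDegree
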