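import Cfsg.Agent.Lib.Blocks.NormalPair
import Cfsg.Agent.Lib.BrauerPairs.Bridge
import Cfsg.Agent.Lib.Char.Orthogonality

/-!
# Stabilisers of blocks under passage to a quotient by a normal `p`-subgroup

* `sameBlock_map`: characters of the image of `H` whose constituents on a subgroup `N` of
  `p`-power index in `H`, centralising the kernel, share a block, share a block;
* `conjEl_blk_blockOf_iff`: fixing the idempotent of a block through a member.
-/

set_option autoImplicit false
set_option linter.unusedSectionVars false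
set_option linter.style.haveILetI false

namespace Cfsg.Agent.EqualDegree

open Cfsg Cfsg.Agent.Blocks
open Cfsg.Agent.BrauerPairs (blk conjEl stabilizesBlock_iff)
open scoped Classical

universe u

variable {G : Type u} [Group G] [Fintype G] {p : ℕ} [hp : Fact p.Prime]

theorem exists_index_eq_pow {H : Type*} [Group H] [Finite H] (N : Subgroup H) [N.Normal]
    (h : ∀ g : H, IsPRegular p g → g ∈ N) : ∃ k : ℕ, N.index = p ^ k := by
  have hQ : IsPGroup p (H ⧸ N) := fun q => by
    obtain ⟨g, rfl⟩ := QuotientGroup.mk_surjective q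
    exact ⟨(Nat.card H).factorization p, by
      rw [← QuotientGroup.mk_pow, QuotientGroup.eq_one_iff]
      exact h _ (isPRegular_pow_of_le g le_rfl)⟩
  exact IsPGroup.iff_card.1 hQ

variable {P : Subgroup G} [P.Normal]

/-- The pullback of a character of the image of `H`. -/
noncomputable def pull (H : Subgroup G) (θ : IrrCharacter (H.map (QuotientGroup.mk' P))) :
    IrrCharacter H :=
  ⟨fun h => θ.1 ⟨(h : G), Subgroup.mem_map_of_mem _ h.2⟩,
    Char.IsIrrCharacter.comp_surjective θ.2 ((QuotientGroup.mk' P).subgroupMap H)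
      ((QuotientGroup.mk' P).subgroupMap_surjective H)⟩

theorem pull_apply (H : Subgroup G) (θ : IrrCharacter (H.map (QuotientGroup.mk' P))) (h : H) :
    (pull H θ).1 h = θ.1 ⟨((h : G) : G ⧸ P), Subgroup.mem_map_of_mem _ h.2⟩ := rfl

theorem pull_conjChar (H : Subgroup G) [H.Normal] [(H.map (QuotientGroup.mk' P)).Normal]
    (θ : IrrCharacter (H.map (QuotientGroup.mk' P))) (x : G) :
    pull H (Char.conjChar (H.map (QuotientGroup.mk' P)) θ (x : G ⧸ P)) =
      Char.conjChar H (pull H θ) x := by
  refine Subtype.ext (funext fun h => ?_)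
  simp only [pull_apply, Char.conjChar_coe, Char.conjFun]
  refine congrArg θ.1 (Subtype.ext ?_)
  simp

/-- Restriction of a pullback to a smaller subgroup. -/
noncomputable def restr {H N : Subgroup G} (hNH : N ≤ H)
    (θ : IrrCharacter (H.map (QuotientGroup.mk' P))) : N → ℂ :=
  fun n => (pull H θ).1 ⟨n, hNH n.2⟩

/-- A constituent of a restriction is below a constituent on the image of an intermediate group. -/
theorem exists_constituent_map {H N : Subgroup G} (hNH : N ≤ H) [Fintype N]
    [Fintype (H.map (QuotientGroup.mk' P))] (χ : IrrCharacter (G ⧸ P)) (η : IrrCharacter N)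
    (h : classInner (fun n : N => χ.1 ((n : G) : G ⧸ P)) η.1 ≠ 0) :
    ∃ θ : IrrCharacter (H.map (QuotientGroup.mk' P)),
      classInner (Char.resFun (H.map (QuotientGroup.mk' P)) χ.1) θ.1 ≠ 0 ∧
        classInner (restr hNH θ) η.1 ≠ 0 := by
  have hcl : IsClassFunction (H.map (QuotientGroup.mk' P))
      (Char.resFun (H.map (QuotientGroup.mk' P)) χ.1) := fun a b => by
    simp only [Char.resFun_apply, Subgroup.coe_mul, Subgroup.coe_inv]
    exact irr_classFun χ _ _
  have hexp : (fun n : N => χ.1 ((n : G) : G ⧸ P)) =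
      ∑ θ : IrrCharacter (H.map (QuotientGroup.mk' P)),
        classInner (Char.resFun (H.map (QuotientGroup.mk' P)) χ.1) θ.1 • restr hNH θ := by
    funext n
    have := congrFun (Char.eq_sum_classInner_smul hcl)
      ⟨((n : G) : G ⧸ P), Subgroup.mem_map_of_mem _ (hNH n.2)⟩
    simp only [Char.resFun_apply, Finset.sum_apply, Pi.smul_apply] at this ⊢
    exact this
  rw [hexp, Char.classInner_sum_left] at h
  obtain ⟨θ, -, hθ⟩ := Finset.exists_ne_zero_of_sum_ne_zero h
  rw [Char.classInner_smul_left, mul_ne_zero_iff] at hθ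
  exact ⟨θ, hθ.1, hθ.2⟩

variable {M : Ideal AlgInt} [M.IsMaximal]

/-- Blocks of the image of `H` are determined on a centralising subgroup of `p`-power index. -/
theorem sameBlock_map (hpM : (p : AlgInt) ∈ M) (hP : IsPGroup p P) {H N : Subgroup G} [H.Normal]
    [N.Normal] (hPH : P ≤ H) (hNH : N ≤ H) (hreg : ∀ g ∈ H, IsPRegular p g → g ∈ N)
    (hcent : N ≤ Subgroup.centralizer (P : Set G)) [Fintype N]
    {θ θ' : IrrCharacter (H.map (QuotientGroup.mk' P))} {η η' : IrrCharacter N}
    (h : classInner (restr hNH θ) η.1 ≠ 0) (h' : classInner (restr hNH θ') η'.1 ≠ 0)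
    (hη : SameBlock M η.1 η'.1) : SameBlock M θ.1 θ'.1 := by
  haveI := Fintype.ofFinite H
  set N' := N.subgroupOf H
  set P' := P.subgroupOf H
  haveI : N'.Normal := ‹N.Normal›.subgroupOf H
  haveI : P'.Normal := ‹P.Normal›.subgroupOf H
  haveI := Fintype.ofFinite N'
  set eN : N' ≃* N := Subgroup.subgroupOfEquivOfLe hNH
  have hregH : ∀ g : H, IsPRegular p g → g ∈ N' := fun g hg =>
    Subgroup.mem_subgroupOf.2 (hreg g g.2 (by rwa [IsPRegular, Subgroup.orderOf_coe]))
  have hidx : ∃ k : ℕ, N'.index = p ^ k := exists_index_eq_pow N' hregH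
  have hCH : ∃ k : ℕ, (Subgroup.centralizer (P' : Set H)).index = p ^ k := by
    refine exists_index_eq_pow _ fun g hg => ?_
    rw [Subgroup.mem_centralizer_iff]
    intro u hu
    exact Subtype.ext (Subgroup.mem_centralizer_iff.1
      (hcent (Subgroup.mem_subgroupOf.1 (hregH g hg))) u (Subgroup.mem_subgroupOf.1 hu))
  have hP' : IsPGroup p P' := hP.of_equiv (Subgroup.subgroupOfEquivOfLe hPH).symm
  -- the congruence on `N'`
  have hcl : ∀ (ξ : IrrCharacter (H.map (QuotientGroup.mk' P))) (ζ : IrrCharacter N),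
      classInner (Char.resFun N' (pull H ξ).1) (compEquiv eN ζ).1 = classInner (restr hNH ξ) ζ.1 := by
    intro ξ ζ
    rw [classInner, classInner, Nat.card_congr eN.toEquiv]
    congr 1
    refine Fintype.sum_equiv eN.toEquiv _ _ fun n => ?_
    rfl
  have hη' : SameBlock M (compEquiv eN η).1 (compEquiv eN η').1 := sameBlock_comp_equiv eN hη
  have hsame : SameBlock M (pull H θ).1 (pull H θ').1 := by
    refine BlocksX.sameBlock_of_congr_index N' hpM hidx fun n => ?_
    rw [BlocksX.centralChar_eq_of_constituent N' _ _ (by rw [hcl]; exact h) n,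
      BlocksX.centralChar_eq_of_constituent N' _ _ (by rw [hcl]; exact h') n]
    exact BlocksX.inducedCentralChar_sub N' hη' _
  -- descend
  have hker : P' = ((QuotientGroup.mk' P).subgroupMap H).ker := by
    ext g
    rw [MonoidHom.mem_ker, Subgroup.mem_subgroupOf, ← QuotientGroup.eq_one_iff,
      ← Subtype.coe_injective.eq_iff]
    rfl
  let e : H ⧸ P' ≃* H.map (QuotientGroup.mk' P) :=
    (QuotientGroup.quotientMulEquivOfEq hker).trans
      (QuotientGroup.quotientKerEquivOfSurjective _ ((QuotientGroup.mk' P).subgroupMap_surjective H))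
  have hinf : ∀ ξ, Char.inflate P' (compEquiv e ξ) = pull H ξ := fun ξ =>
    Subtype.ext (funext fun g => rfl)
  rw [← hinf, ← hinf] at hsame
  have h1 := sameBlock_comp_equiv e.symm
    ((BlocksX.sameBlock_inflate_iff hpM hP' hCH _ _).2 hsame)
  simpa [compEquiv_apply] using h1

theorem classInner_restr_conj {H N : Subgroup G} [H.Normal] [N.Normal] (hNH : N ≤ H) [Fintype N]
    [(H.map (QuotientGroup.mk' P)).Normal] (θ : IrrCharacter (H.map (QuotientGroup.mk' P)))
    (η : IrrCharacter N) (x : G) :
    classInner (restr hNH (Char.conjChar (H.map (QuotientGroup.mk' P)) θ (x : G ⧸ P)))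
      (Char.conjChar N η x).1 = classInner (restr hNH θ) η.1 := by
  have e : restr hNH (Char.conjChar (H.map (QuotientGroup.mk' P)) θ (x : G ⧸ P)) =
      Char.conjFun N (restr hNH θ) x := by
    funext n
    show (pull H (Char.conjChar (H.map (QuotientGroup.mk' P)) θ (x : G ⧸ P))).1 ⟨n, _⟩ = _
    rw [pull_conjChar]
    rfl
  rw [e, Char.conjChar_coe, Char.classInner_conjFun]

variable [CharP (AlgInt ⧸ M) p]

/-- Fixing the idempotent of a block. -/
theorem conjEl_blk_blockOf_iff (H : Subgroup G) [H.Normal] (θ : IrrCharacter H) (x : G) :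
    conjEl x (blk M H (blockOf M θ.1)) = blk M H (blockOf M θ.1) ↔
      SameBlock M θ.1 (Char.conjFun H θ.1 x) := by
  have hN : ∀ y : G, y ∈ Subgroup.normalizer (H : Set G) := fun y => by
    rw [Subgroup.normalizer_eq_top]; exact Subgroup.mem_top y
  have key : ∀ (χ χ' : IrrCharacter H), IsConjCharOf H x⁻¹ χ.1 χ'.1 ↔ χ' = Char.conjChar H χ x := by
    intro χ χ'
    constructor
    · intro h
      refine Subtype.ext (funext fun n => ?_)
      exact h (MulAut.conjNormal x n) n (by simp [mul_assoc])
    · rintro rfl k k' hk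
      show χ.1 (MulAut.conjNormal x k') = χ.1 k
      refine congrArg χ.1 (Subtype.ext ?_)
      simp [hk, mul_assoc]
  have hflip : conjEl x (blk M H (blockOf M θ.1)) = blk M H (blockOf M θ.1) ↔
      conjEl x⁻¹ (blk M H (blockOf M θ.1)) = blk M H (blockOf M θ.1) := by
    constructor <;> intro h <;> conv_lhs => rw [← h]
    · rw [BrauerPairs.conjEl_inv_conjEl]
    · rw [← BrauerPairs.conjEl_mul, mul_inv_cancel, BrauerPairs.conjEl_one]
  rw [hflip, ← stabilizesBlock_iff (isPBlock_blockOf θ) (hN _)]
  constructor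
  · rintro ⟨-, h⟩
    obtain ⟨χ', hχ', hc⟩ := h θ (mem_blockOf_self θ)
    rw [key] at hc
    subst hc
    exact hχ'
  · intro h
    refine ⟨hN _, fun χ hχ => ⟨Char.conjChar H χ x, ?_, (key _ _).2 rfl⟩⟩
    exact mem_blockOf.2 (SameBlock.trans h (BlocksX.sameBlock_conjFun H (mem_blockOf.1 hχ) x))

end Cfsg.Agent.EqualDegree
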