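import Cfsg.Agent.Lib.EqualDegree.Core
import Cfsg.Agent.Lib.EqualDegree.Generation
import Cfsg.Agent.Lib.EqualDegree.Transfer
import Cfsg.Agent.Lib.BlocksX.Green
import Cfsg.Agent.Lib.BlocksX.NormalDefect
import Cfsg.Agent.Lib.IsaacsCorr.Cover
import Cfsg.Agent.S0887

/-!
# A block with elementary abelian normal defect group and a single degree

An element fixing a block of `C(D)/D` under the block centralises `D`.
-/

set_option autoImplicit false
set_option linter.unusedSectionVars false
set_option linter.style.haveILetI false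

namespace Cfsg.Agent.EqualDegree

open Cfsg Cfsg.Agent.Blocks
open Cfsg.Agent.BrauerPairs (blk blkG conjEl centerIn suppIn fixedBy IsBlockIdem)
open scoped Classical

universe u

variable {G : Type u} [Group G] [Fintype G] {p : ℕ} [hp : Fact p.Prime] {M : Ideal AlgInt}
  [M.IsMaximal] [CharP (AlgInt ⧸ M) p] {B : Set (IrrCharacter G)} {D : Subgroup G} [D.Normal]

theorem conjNormal_eq_iff {g : G} :
    (∀ u : D, MulAut.conjNormal g u = u) ↔ g ∈ Subgroup.centralizer (D : Set G) := by
  rw [Subgroup.mem_centralizer_iff]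
  constructor
  · intro h u hu
    have h1 := congrArg Subtype.val (h ⟨u, hu⟩)
    rw [MulAut.conjNormal_apply, mul_inv_eq_iff_eq_mul] at h1
    exact h1.symm
  · intro h u
    refine Subtype.ext ?_
    rw [MulAut.conjNormal_apply, ← h u u.2, mul_inv_cancel_right]

/-- With a single degree the degree has the `p`-part of the index of the defect group. -/
theorem factorization_degree_eq (hpM : (p : AlgInt) ∈ M) (hB : IsPBlock M B)
    (hD : IsDefectGroup p M B D) {n : ℕ} (hdeg : ∀ χ ∈ B, Char.degree χ = n) :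
    n.factorization p = D.index.factorization p := by
  obtain ⟨h, hh, hhD⟩ := isDefectGroup_iff.1 hD
  obtain ⟨χ, hχ, h0⟩ := exists_height_zero hpM hB
  rw [← hdeg χ hχ, (blockHeight_eq_zero_iff hpM hB hh hχ).1 h0]
  have h1 := factorization_index (p := p) (Subgroup.centralizer ({h} : Set G))
  have h2 := factorization_index (p := p) D
  rw [hhD.2, hp.out.factorization_pow, Finsupp.single_eq_same] at h2
  omega

set_option maxHeartbeats 1000000 in
/-- The main step. -/
theorem mem_centralizer_of_fixes (hpM : (p : AlgInt) ∈ M) (hB : IsPBlock M B)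
    (hD : IsDefectGroup p M B D) (hDc : ∀ u v : D, u * v = v * u) (hexp : ∀ u : D, u ^ p = 1)
    {n : ℕ} (hdeg : ∀ χ ∈ B, Char.degree χ = n)
    [((Subgroup.centralizer (D : Set G)).map (QuotientGroup.mk' D)).Normal]
    [Fintype ((Subgroup.centralizer (D : Set G)).map (QuotientGroup.mk' D))]
    [Fintype (G ⧸ D)]
    {χ : IrrCharacter (G ⧸ D)} (hχ : Char.inflate D χ ∈ B)
    {θ : IrrCharacter ((Subgroup.centralizer (D : Set G)).map (QuotientGroup.mk' D))}
    (hθ : classInner (Char.resFun _ χ.1) θ.1 ≠ 0) {x : G}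
    (hx : SameBlock M θ.1
      (Char.conjFun ((Subgroup.centralizer (D : Set G)).map (QuotientGroup.mk' D)) θ.1 (x : G ⧸ D))) :
    x ∈ Subgroup.centralizer (D : Set G) := by
  haveI := Fintype.ofFinite (IrrCharacter (G ⧸ D))
  haveI := Fintype.ofFinite (Subgroup.centralizer (D : Set G))
  have hn := factorization_degree_eq hpM hB hD hdeg
  have hDC : D ≤ Subgroup.centralizer (D : Set G) := fun d hd => Subgroup.mem_centralizer_iff.2
    fun u hu => congrArg Subtype.val (hDc ⟨u, hu⟩ ⟨d, hd⟩)
  have hKmem : ∀ g : G, (g : G ⧸ D) ∈ ((Subgroup.centralizer (D : Set G)).map (QuotientGroup.mk' D)) ↔ g ∈ Subgroup.centralizer (D : Set G) := by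
    intro g
    refine ⟨fun h => ?_, fun h => Subgroup.mem_map_of_mem _ h⟩
    obtain ⟨c, hc, e⟩ := h
    have h1 : c⁻¹ * g ∈ D := QuotientGroup.eq.1 e
    simpa using mul_mem hc (hDC h1)
  have hχdeg : Char.degree χ = n := by rw [← hdeg _ hχ, degree_inflate']
  have hbl : ∀ ψ ∈ below B D, IsPBlock M ({ψ} : Set (IrrCharacter (G ⧸ D))) := fun ψ hψ =>
    isPBlock_singleton hpM hn (by rw [← hdeg _ (mem_below.1 hψ), degree_inflate'])
  -- the block of `θ`
  set f := blk M ((Subgroup.centralizer (D : Set G)).map (QuotientGroup.mk' D)) (blockOf M θ.1) with hf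
  have hfid : IsBlockIdem ((Subgroup.centralizer (D : Set G)).map (QuotientGroup.mk' D)) f := BrauerPairs.isBlockIdem_blk _ (isPBlock_blockOf θ)
  set e := blkG M B
  have hproje : proj (AlgInt ⧸ M) D e ∈ centerIn (AlgInt ⧸ M) ((Subgroup.centralizer (D : Set G)).map (QuotientGroup.mk' D)) := by
    refine ⟨BrauerPairs.mem_suppIn.2 fun q hq => ?_, BrauerPairs.mem_fixedBy_iff_coeff.2 fun h _ q => ?_⟩
    · obtain ⟨g, rfl⟩ := QuotientGroup.mk_surjective q
      rw [coeff_proj]
      refine Finset.sum_eq_zero fun u _ => ?_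
      rw [BrauerPairs.coeff_blkG, red_eq_zero_of_mem]
      by_contra hne
      have h1 := BlocksX.mem_centralizer_of_unit_blockCoeff hpM hB (IsDefectGroup.isPGroup hD) hne
      refine hq ((hKmem g).2 ?_)
      simpa using mul_mem (inv_mem (hDC u.2)) h1
    · obtain ⟨c, rfl⟩ := QuotientGroup.mk_surjective h
      obtain ⟨g, rfl⟩ := QuotientGroup.mk_surjective q
      rw [← QuotientGroup.mk_inv, ← QuotientGroup.mk_mul, ← QuotientGroup.mk_mul, coeff_proj,
        coeff_proj, ← Equiv.sum_comp (MulAut.conjNormal (H := D) c).toEquiv]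
      refine Finset.sum_congr rfl fun u _ => ?_
      show e.coeff (((MulAut.conjNormal c u : D) : G) * (c * g * c⁻¹)) = _
      rw [MulAut.conjNormal_apply, show c * (u : G) * c⁻¹ * (c * g * c⁻¹) = c * ((u : G) * g) * c⁻¹ by
        group]
      exact isCentralElt_blkG B _ _
  have hef : proj (AlgInt ⧸ M) D e * f = f := by
    have hidem : proj (AlgInt ⧸ M) D e * proj (AlgInt ⧸ M) D e = proj (AlgInt ⧸ M) D e := by
      rw [← map_mul, BrauerPairs.blkG_mul_self hB]
    refine (hfid.mul_eq_zero_or_self hproje hidem).resolve_left fun h0 => ?_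
    have h1 : blkG M ({χ} : Set (IrrCharacter (G ⧸ D))) * f ≠ 0 :=
      BrauerPairs.mul_ne_zero_of_covers (hbl χ (mem_below.2 hχ)) (isPBlock_blockOf θ)
        (Set.mem_singleton χ) (mem_blockOf_self θ) hθ
    refine h1 ?_
    have h2 : blkG M ({χ} : Set (IrrCharacter (G ⧸ D))) * proj (AlgInt ⧸ M) D e =
        blkG M ({χ} : Set (IrrCharacter (G ⧸ D))) := by
      rw [proj_blkG hB hbl, Finset.mul_sum, Finset.sum_eq_single χ
        (fun ψ hψ hne => BrauerPairs.blkG_mul_eq_zero (hbl χ (mem_below.2 hχ)) (hbl ψ hψ)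
          fun e => hne (Set.singleton_injective e).symm)
        (fun h => absurd (mem_below.2 hχ) h), BrauerPairs.blkG_mul_self (hbl χ (mem_below.2 hχ))]
    rw [← h2, mul_assoc, h0, mul_zero]
  refine conjNormal_eq_iff.1 fun d => ?_
  refine conjNormal_eq_of_fixes (p := p) hDc hexp ((Subgroup.centralizer (D : Set G)).map (QuotientGroup.mk' D)) (fun g => (hKmem g).trans conjNormal_eq_iff.symm)
    hfid (isCentralElt_blkG B) (BrauerPairs.blkG_mul_self hB) hef
    (fun y hy hy0 => exists_central_generation hpM hB hDc (IsDefectGroup.isPGroup hD) hdeg hn y hy hy0) ?_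
    ((conjEl_blk_blockOf_iff ((Subgroup.centralizer (D : Set G)).map (QuotientGroup.mk' D)) θ _).2 hx) d
  -- `p = 2`
  intro hp2 g hg hg2
  rw [conjNormal_eq_iff] at hg2 ⊢
  rw [hf, conjEl_blk_blockOf_iff ((Subgroup.centralizer (D : Set G)).map (QuotientGroup.mk' D)) θ] at hg
  -- `θ` has defect zero
  have hθdeg : (Char.degree θ).factorization p = (Nat.card ((Subgroup.centralizer (D : Set G)).map (QuotientGroup.mk' D))).factorization p := by
    refine le_antisymm ((Nat.factorization_le_iff_dvd (Char.degree_pos θ).ne' Nat.card_pos.ne').2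
      (Char.degree_dvd_natCard θ) p) ?_
    obtain ⟨hd1, hd2⟩ := Cfsg.Agent.S0887.result ((Subgroup.centralizer (D : Set G)).map (QuotientGroup.mk' D)) χ.1 χ.2 θ.1 θ.2 hθ (Char.degree χ) (Char.degree θ)
      (Char.apply_one_eq_degree χ) (Char.apply_one_eq_degree θ)
    have h3 := (Nat.factorization_le_iff_dvd (Nat.div_pos (Nat.le_of_dvd (Char.degree_pos χ) hd1)
      (Char.degree_pos θ)).ne' Subgroup.index_ne_zero_of_finite).2 hd2 p
    rw [Nat.factorization_div hd1, Finsupp.tsub_apply, hχdeg, hn] at h3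
    have h4 := factorization_index (p := p) ((Subgroup.centralizer (D : Set G)).map (QuotientGroup.mk' D))
    have h5 : (Nat.card (G ⧸ D)).factorization p = D.index.factorization p := rfl
    omega
  have hgθ : Char.conjChar ((Subgroup.centralizer (D : Set G)).map (QuotientGroup.mk' D)) θ (g : G ⧸ D) = θ := by
    have h1 : Char.conjChar ((Subgroup.centralizer (D : Set G)).map (QuotientGroup.mk' D)) θ (g : G ⧸ D) ∈ blockOf M θ.1 := mem_blockOf.2 hg
    rw [(blockOf_eq_singleton_iff hpM θ).2 hθdeg] at h1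
    exact h1
  have hfix : Char.conjFun (Subgroup.centralizer (D : Set G))
      (pull (Subgroup.centralizer (D : Set G)) θ).1 g = (pull (Subgroup.centralizer (D : Set G)) θ).1 := by
    rw [← Char.conjChar_coe, ← pull_conjChar, hgθ]
  -- a defect class
  obtain ⟨h, hh, hhD⟩ := isDefectGroup_iff.1 hD
  have hhC : h ∈ Subgroup.centralizer (D : Set G) :=
    BlocksX.mem_centralizer_of_unit_blockCoeff hpM hB (IsDefectGroup.isPGroup hD) hh.2.1
  have hcon : classInner (Char.resFun (Subgroup.centralizer (D : Set G)) (Char.inflate D χ).1)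
      (pull (Subgroup.centralizer (D : Set G)) θ).1 ≠ 0 := by
    have := IsaacsCorr.classInner_comp_surjective ((QuotientGroup.mk' D).subgroupMap _)
      ((QuotientGroup.mk' D).subgroupMap_surjective (Subgroup.centralizer (D : Set G)))
      (Char.resFun ((Subgroup.centralizer (D : Set G)).map (QuotientGroup.mk' D)) χ.1) θ.1
    intro h0
    apply hθ
    rw [← this, ← h0]
    rfl
  have hu : ¬ MemLocalIdeal M
      (inducedCentralChar (Subgroup.centralizer (D : Set G)) (pull (Subgroup.centralizer (D : Set G)) θ).1 h) := by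
    intro hmem
    have h1 := BlocksX.congr_of_covers (Subgroup.centralizer (D : Set G)) hB (isPBlock_blockOf _) hχ
      (mem_blockOf_self (pull (Subgroup.centralizer (D : Set G)) θ)) hcon hχ (mem_blockOf_self _) ⟨h, hhC⟩
    exact hh.2.2 _ hχ (memLocalIdeal_of_sub h1 hmem)
  -- split off the `2`-part
  obtain ⟨r, s, hrs, hcomm, hr, hs⟩ := exists_isPPart (p := p) g
  have hcop : Nat.Coprime (orderOf s) 2 := by
    rw [← hp2]
    exact (hp.out.coprime_iff_not_dvd.2 hs).symm
  have hsg : s ∈ Subgroup.zpowers g := by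
    have hr' : r ∈ Subgroup.zpowers g :=
      IsPPart.mem_zpowers (p := p) ⟨s, hrs, hcomm, hr, hs⟩
    rw [show s = r⁻¹ * g by rw [← hrs, inv_mul_cancel_left]]
    exact mul_mem (inv_mem hr') (Subgroup.mem_zpowers g)
  have hsC : s ∈ Subgroup.centralizer (D : Set G) := by
    obtain ⟨m, hm⟩ := exists_pow_eq_self_of_coprime (x := s) (n := 2) hcop.symm
    obtain ⟨i, rfl⟩ := hsg
    rw [← hm]
    refine pow_mem ?_ m
    rw [← zpow_natCast, ← zpow_mul, mul_comm, zpow_mul, zpow_natCast, pow_two]
    exact zpow_mem hg2 i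
  have hfixr : Char.conjFun (Subgroup.centralizer (D : Set G))
      (pull (Subgroup.centralizer (D : Set G)) θ).1 r = (pull (Subgroup.centralizer (D : Set G)) θ).1 := by
    have hsmem : ∀ m : Subgroup.centralizer (D : Set G),
        Char.conjFun (Subgroup.centralizer (D : Set G)) (pull (Subgroup.centralizer (D : Set G)) θ).1 (m : G) =
          (pull (Subgroup.centralizer (D : Set G)) θ).1 := fun m => funext fun c => by
      show (pull _ θ).1 (MulAut.conjNormal (m : G) c) = _
      rw [show MulAut.conjNormal (m : G) c = m * c * m⁻¹ from Subtype.ext (by simp)]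
      exact irr_classFun _ _ _
    rw [show r = g * s⁻¹ by rw [← hrs, mul_inv_cancel_right], Char.conjFun_mul, hfix]
    exact hsmem ⟨s⁻¹, inv_mem hsC⟩
  have hrC : r ∈ Subgroup.centralizer (D : Set G) :=
    BlocksX.mem_of_fixes hpM hDC (pull (Subgroup.centralizer (D : Set G)) θ) hhD hu hr hfixr
  rw [← hrs]
  exact mul_mem hrC hsC

end Cfsg.Agent.EqualDegree
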