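import Cfsg.Agent.Lib.EqualDegree.Elementary
import Cfsg.Agent.Lib.BrauerPairs.NilpotentBlock
import Cfsg.Agent.Lib.BrauerPairs.NormalPSub
import Cfsg.Agent.Lib.Coprime.Commutator
import Cfsg.Agent.S4609

/-!
# Blocks with a normal defect group whose height zero characters have one degree

* `isNilpotentPairs_of_stab`: with a normal defect group nilpotency is read off the stabilisers of
  the blocks of its centraliser;
* `isNilpotentBlock_of_equal_degree`: equal height zero degrees force nilpotency.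
-/

set_option autoImplicit false
set_option linter.unusedSectionVars false
set_option linter.style.haveILetI false

namespace Cfsg.Agent.EqualDegree

open Cfsg Cfsg.Agent.Blocks
open Cfsg.Agent.BrauerPairs (IsBlockIdem IsPairOf IsMax IsNilpotentPairs conjEl stabOf centerIn suppIn fixedBy blk blkG)
open scoped Classical commutatorElement

universe u

section Pairs

variable {k : Type*} [Field k] {G : Type u} [Group G] [Finite G] {p : ℕ} [Fact p.Prime] [CharP k p]

/-- The orbit sum under a subgroup is fixed by it. -/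
theorem orbitSum_mem_fixedBy (C : Subgroup G) (e : MonoidAlgebra k G) [Fintype C]
    [DecidableEq (MonoidAlgebra k G)] :
    ∑ a ∈ (Finset.univ : Finset C).image (fun c : C => conjEl (c : G) e), a ∈ fixedBy k C := by
  intro c hc
  set orb := (Finset.univ : Finset C).image (fun c : C => conjEl (c : G) e) with horb
  have himg : orb.image (fun a => conjEl c a) = orb := by
    rw [horb, Finset.image_image]
    ext a
    simp only [Finset.mem_image, Finset.mem_univ, true_and, Function.comp_apply]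
    constructor
    · rintro ⟨d, rfl⟩
      exact ⟨⟨c * d, mul_mem hc d.2⟩, BrauerPairs.conjEl_mul c (d : G) e⟩
    · rintro ⟨d, rfl⟩
      refine ⟨⟨c⁻¹ * d, mul_mem (inv_mem hc) d.2⟩, ?_⟩
      rw [← BrauerPairs.conjEl_mul]
      simp only [mul_inv_cancel_left]
  show conjEl c (∑ a ∈ orb, a) = ∑ a ∈ orb, a
  rw [map_sum]
  refine (Finset.sum_image (f := fun a => a) fun a _ b _ hab => ?_).symm.trans
    (congrArg (fun t => ∑ a ∈ t, a) himg)
  have h := congrArg (conjEl c⁻¹) hab
  simpa [BrauerPairs.conjEl_inv_conjEl] using h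

/-- Nilpotency from the stabilisers over a normal defect group. -/
theorem isNilpotentPairs_of_stab (hblk : ∀ H : Subgroup G, BrauerPairs.HasBlocks k H)
    {B e : MonoidAlgebra k G} (hB : IsBlockIdem ⊤ B) {D : Subgroup G} [D.Normal]
    (hmax : IsMax p B (D, e)) (hBC : B ∈ suppIn k (Subgroup.centralizer (D : Set G)))
    (hstab : ∀ e', IsBlockIdem (Subgroup.centralizer (D : Set G)) e' → B * e' = e' →
      ∀ y : G, conjEl y e' = e' → IsPRegular p y → y ∈ Subgroup.centralizer (D : Set G)) :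
    IsNilpotentPairs p B := by
  intro Q f hQf x hx hreg
  haveI := Fintype.ofFinite G
  obtain ⟨g, hg⟩ := BrauerPairs.exists_conj_ple hblk hB hmax hQf
  have hQD : Q ≤ D := by
    intro q hq
    have h1 : g * q * g⁻¹ ∈ D := hg.le ⟨q, hq, rfl⟩
    simpa [mul_assoc] using ‹D.Normal›.conj_mem _ h1 g⁻¹
  have hCC : Subgroup.centralizer (D : Set G) ≤ Subgroup.centralizer (Q : Set G) :=
    Subgroup.centralizer_le hQD
  have hBf : B * f = f := by
    rw [← BrauerPairs.br_eq_self (P := Q) (a := B) fun y hy => hBC y fun h => hy (hCC h)]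
    exact hQf.2
  obtain ⟨e', he', hfe⟩ := BrauerPairs.exists_blockIdem_mul_ne_zero hblk
    (Subgroup.centralizer (D : Set G)) hQf.1.2.ne_zero
  have hBmem : B ∈ centerIn k (Subgroup.centralizer (D : Set G)) :=
    ⟨hBC, BrauerPairs.fixedBy_anti le_top hB.mem.2⟩
  have hBe : B * e' = e' := (he'.mul_eq_zero_or_self hBmem hB.idem).resolve_left fun h0 => hfe (by
    show f * e' = 0
    rw [← hBf, ← BrauerPairs.centerIn_commute (BrauerPairs.suppIn_mono le_top hQf.1.2.mem.1) hB.mem.2,
      mul_assoc, h0, mul_zero])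
  -- the orbit sum of `e'` under `C(Q)`
  set orb := (Finset.univ : Finset (Subgroup.centralizer (Q : Set G))).image
    (fun c : Subgroup.centralizer (Q : Set G) => conjEl (c : G) e') with horb
  have horbI : ∀ a ∈ orb, IsBlockIdem (Subgroup.centralizer (D : Set G)) a := fun a ha => by
    obtain ⟨c, -, rfl⟩ := Finset.mem_image.1 ha
    exact BrauerPairs.conj_isBlockIdem_normal he' _
  set s := ∑ a ∈ orb, a with hs
  have hsmem : s ∈ centerIn k (Subgroup.centralizer (Q : Set G)) :=
    ⟨sum_mem fun a ha => BrauerPairs.suppIn_mono hCC (horbI a ha).mem.1, orbitSum_mem_fixedBy _ e'⟩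
  have hsel : ∀ a, IsBlockIdem (Subgroup.centralizer (D : Set G)) a →
      s * a = if a ∈ orb then a else 0 := by
    intro a ha
    rw [hs, Finset.sum_mul]
    split_ifs with hm
    · rw [Finset.sum_eq_single a (fun b hb hne => ha.mul_eq_zero_of_ne (horbI b hb) hne.symm)
        (fun h => absurd hm h), ha.idem]
    · exact Finset.sum_eq_zero fun b hb => ha.mul_eq_zero_of_ne (horbI b hb) fun e => hm (e ▸ hb)
  have hss : s * s = s := by
    conv_lhs => arg 2; rw [hs]
    rw [Finset.mul_sum]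
    exact Finset.sum_congr rfl fun a ha => by rw [hsel a (horbI a ha), if_pos ha]
  have hsf : s * f = f := by
    refine (hQf.1.2.mul_eq_zero_or_self hsmem hss).resolve_left fun h0 => hfe ?_
    have h1 : f * e' = f * (s * e') := by
      rw [hsel e' he', if_pos (Finset.mem_image.2 ⟨1, Finset.mem_univ _, BrauerPairs.conjEl_one e'⟩)]
    rw [h1, ← mul_assoc, BrauerPairs.centerIn_commute hQf.1.2.mem.1 hsmem.2, h0, zero_mul]
  -- `x` moves `e'` inside the orbit
  have hx2 : f * conjEl x e' ≠ 0 := by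
    intro h0
    apply hfe
    have h1 := congrArg (conjEl x⁻¹) h0
    rw [map_mul, map_zero, BrauerPairs.conjEl_inv_conjEl] at h1
    rwa [show conjEl x⁻¹ f = f from (inv_mem hx).2] at h1
  have hmem : conjEl x e' ∈ orb := by
    by_contra hno
    apply hx2
    rw [← hsf, mul_assoc]
    have hcomm : f * conjEl x e' = conjEl x e' * f :=
      (BrauerPairs.centerIn_commute (BrauerPairs.suppIn_mono hCC
        (BrauerPairs.conj_isBlockIdem_normal he' x).mem.1) hQf.1.2.mem.2).symm
    rw [hcomm, ← mul_assoc, hsel _ (BrauerPairs.conj_isBlockIdem_normal he' x), if_neg hno, zero_mul]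
  obtain ⟨c, -, hc⟩ := Finset.mem_image.1 hmem
  set y := (c : G)⁻¹ * x with hy
  have hyfix : conjEl y e' = e' := by
    rw [hy, BrauerPairs.conjEl_mul, ← hc, BrauerPairs.conjEl_inv_conjEl]
  set q := p ^ (Nat.card G).factorization p
  have hyq : y ^ q ∈ Subgroup.centralizer (Q : Set G) := by
    refine hCC (hstab e' he' hBe _ ?_ (isPRegular_pow_of_le y le_rfl))
    exact BrauerPairs.mem_fixGroup.1 (pow_mem (BrauerPairs.mem_fixGroup.2 hyfix) q)
  -- `x` and `y` act on `Q` in the same way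
  have hcN : (c : G) ∈ Subgroup.normalizer (Q : Set G) := Subgroup.centralizer_le_normalizer _ c.2
  have hyN : y ∈ Subgroup.normalizer (Q : Set G) := mul_mem (inv_mem hcN) hx.1
  obtain ⟨d, hd, hxq⟩ := BrauerPairs.exists_pow_eq_mul_centralizer (y := x) hyN
    (show y⁻¹ * x ∈ Subgroup.centralizer (Q : Set G) by
      rw [hy, show ((c : G)⁻¹ * x)⁻¹ * x = x⁻¹ * (c : G) * x by group]
      exact (Subgroup.mem_normalizer_iff''.1
        (BrauerPairs.normalizer_le_normalizer_centralizer Q hx.1) (c : G)).1 c.2) q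
  have hxC : x ^ q ∈ Subgroup.centralizer (Q : Set G) := hxq ▸ mul_mem hyq hd
  obtain ⟨m, hm⟩ := exists_pow_eq_self_of_coprime (x := x) (n := q)
    (Nat.Coprime.pow_left _ (((Fact.out : p.Prime).coprime_iff_not_dvd).2 hreg))
  exact hm ▸ pow_mem hxC m

end Pairs

variable {G : Type u} [Group G] [Fintype G] {p : ℕ} [hp : Fact p.Prime] {M : Ideal AlgInt}
  [M.IsMaximal] [CharP (AlgInt ⧸ M) p] {B : Set (IrrCharacter G)} {D : Subgroup G} [D.Normal]

set_option maxHeartbeats 1000000 in
theorem mem_centralizer_of_stab (hpM : (p : AlgInt) ∈ M) (hB : IsPBlock M B)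
    (hD : IsDefectGroup p M B D) {n : ℕ}
    (hdeg : ∀ χ ∈ B, blockHeight p B χ.1 = 0 → Char.degree χ = n)
    {b : Set (IrrCharacter (Subgroup.centralizer (D : Set G)))} (hb : IsPBlock M b)
    (hBb : blkG M B * blk M _ b = blk M _ b) {y : G}
    (hy : conjEl y (blk M _ b) = blk M _ b) (hreg : IsPRegular p y) :
    y ∈ Subgroup.centralizer (D : Set G) := by
  set Φ := Blocks.ThreeChars.phiSub D
  haveI : Φ.Normal := ConjAct.normal_of_characteristic_of_normal
  have hDp := IsDefectGroup.isPGroup hD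
  have hΦD : Φ ≤ D := Blocks.ThreeChars.phiSub_le D
  have hΦp : IsPGroup p Φ := hDp.to_le hΦD
  haveI := Fintype.ofFinite (Subgroup.centralizer (D : Set G))
  letI := Fintype.ofFinite (G ⧸ Φ)
  -- the block of the quotient
  obtain ⟨Bb, hBb', hsub, hdef⟩ := BlocksX.exists_block_quotient Φ hpM hB hΦp
  have hDb : IsDefectGroup p M Bb (D.map (QuotientGroup.mk' Φ)) := (hdef _).2 ⟨D, hD, rfl⟩
  set Db := D.map (QuotientGroup.mk' Φ) with hDb'
  haveI : Db.Normal := Subgroup.Normal.map ‹D.Normal› _ (QuotientGroup.mk'_surjective Φ)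
  have hDc : ∀ u v : Db, u * v = v * u := by
    rintro ⟨_, x, hx, rfl⟩ ⟨_, z, hz, rfl⟩
    refine Subtype.ext ?_
    show QuotientGroup.mk' Φ x * QuotientGroup.mk' Φ z = QuotientGroup.mk' Φ z * QuotientGroup.mk' Φ x
    rw [← commutatorElement_eq_one_iff_mul_comm, ← map_commutatorElement]
    exact (QuotientGroup.eq_one_iff _).2 ⟨⁅(⟨x, hx⟩ : D), (⟨z, hz⟩ : D)⁆,
      PGroup.commutator_le_frattini hDp
        (Subgroup.commutator_mem_commutator (Subgroup.mem_top _) (Subgroup.mem_top _)), rfl⟩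
  have hexp : ∀ u : Db, u ^ p = 1 := by
    rintro ⟨_, x, hx, rfl⟩
    refine Subtype.ext ?_
    show QuotientGroup.mk' Φ x ^ p = 1
    rw [← map_pow]
    exact (QuotientGroup.eq_one_iff _).2
      ⟨(⟨x, hx⟩ : D) ^ p, PGroup.pow_mem_frattini hDp _, rfl⟩
  have hdegb : ∀ χ ∈ Bb, Char.degree χ = n := fun χ hχ => by
    rw [← hdeg _ (hsub χ hχ)
      (Cfsg.Agent.S4609.height_zero_of_trivOn hpM hB hD (hsub χ hχ) (Char.trivOn_inflate _ _))]
    exact (degree_inflate' χ).symm
  -- a member trivial on the defect group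
  obtain ⟨χ₁, hχ₁, htriv⟩ := BlocksX.exists_trivOn_of_defectGroup hpM hBb' hDb
  obtain ⟨χ₂, hχ₂⟩ := Char.exists_descend Db χ₁ htriv
  have hinf : Char.inflate Db χ₂ = χ₁ := Subtype.ext (funext hχ₂)
  -- the constituent in `b`
  obtain ⟨χ₀, hχ₀, η₀, hη₀, hc₀⟩ := BrauerPairs.covers_of_mul_ne_zero hB hb
    (by rw [hBb]; exact (BrauerPairs.isBlockIdem_blk _ hb).ne_zero)
  obtain ⟨η, hη, hcη⟩ := BlocksX.covers_of_congr (Subgroup.centralizer (D : Set G)) hB hb
    (fun χ hχ θ hθ m => BlocksX.congr_of_covers _ hB hb hχ₀ hη₀ hc₀ hχ hθ m)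
    (Char.inflate Φ χ₁) (hsub χ₁ hχ₁)
  -- the first quotient
  set L := Subgroup.centralizer (Db : Set (G ⧸ Φ)) with hL
  set H := L.comap (QuotientGroup.mk' Φ) with hH
  have hNH : Subgroup.centralizer (D : Set G) ≤ H := by
    intro c hc
    rw [hH, Subgroup.mem_comap, hL, Subgroup.mem_centralizer_iff]
    rintro _ ⟨u, hu, rfl⟩
    rw [← map_mul, ← map_mul, Subgroup.mem_centralizer_iff.1 hc u hu]
  have hΦH : Φ ≤ H := fun u hu => by
    show QuotientGroup.mk' Φ u ∈ L
    rw [QuotientGroup.mk'_apply, (QuotientGroup.eq_one_iff u).2 hu]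
    exact one_mem _
  have hregH : ∀ g ∈ H, IsPRegular p g → g ∈ Subgroup.centralizer (D : Set G) := by
    intro g hg hgr
    refine Coprime.le_centralizer_of_frattini (A := Subgroup.zpowers g) (K := D) ?_ ?_ ?_
      (Subgroup.mem_zpowers g)
    · rw [Subgroup.normalizer_eq_top]; exact le_top
    · rw [Nat.card_zpowers]
      obtain ⟨j, hj⟩ := IsPGroup.iff_card.1 (hDp.to_subgroup (frattini D))
      rw [hj]
      exact (Nat.Coprime.pow_left _ (hp.out.coprime_iff_not_dvd.2 hgr)).symm
    · intro a ha u hu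
      have haH : a ∈ H := Subgroup.zpowers_le.2 hg ha
      rw [hH, Subgroup.mem_comap, hL, Subgroup.mem_centralizer_iff] at haH
      have h1 := haH _ (Subgroup.mem_map_of_mem _ hu)
      exact (QuotientGroup.eq_one_iff _).1 (by
        simp only [QuotientGroup.mk'_apply] at h1
        rw [QuotientGroup.mk_mul, QuotientGroup.mk_mul, QuotientGroup.mk_mul, QuotientGroup.mk_inv,
          QuotientGroup.mk_inv, ← h1, mul_inv_cancel_right, mul_inv_cancel])
  set K := H.map (QuotientGroup.mk' Φ) with hK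
  have hKL : K ≤ L := Subgroup.map_comap_le _ _
  have hLK : L ≤ K := fun a ha => by
    obtain ⟨g, rfl⟩ := QuotientGroup.mk'_surjective Φ a
    exact Subgroup.mem_map_of_mem _ ha
  haveI : H.Normal := Subgroup.Normal.comap inferInstance _
  haveI : K.Normal := Subgroup.Normal.map ‹H.Normal› _ (QuotientGroup.mk'_surjective Φ)
  haveI := Fintype.ofFinite K
  obtain ⟨θ, hθ, hθη⟩ := exists_constituent_map (H := H) hNH χ₁ η hcη
  have hyη : SameBlock M η.1 (Char.conjFun (Subgroup.centralizer (D : Set G)) η.1 y) := by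
    rw [← conjEl_blk_blockOf_iff, ← block_eq hb hη]
    exact hy
  have hyθ : SameBlock M θ.1 (Char.conjChar K θ (y : G ⧸ Φ)).1 :=
    sameBlock_map hpM hΦp hΦH hNH hregH (Subgroup.centralizer_le hΦD) hθη
      (η' := Char.conjChar (Subgroup.centralizer (D : Set G)) η y)
      (by rw [classInner_restr_conj]; exact hθη) hyη
  -- the second quotient
  haveI : (L.map (QuotientGroup.mk' Db)).Normal :=
    Subgroup.Normal.map inferInstance _ (QuotientGroup.mk'_surjective Db)
  letI := Fintype.ofFinite (L.map (QuotientGroup.mk' Db))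
  letI := Fintype.ofFinite ((G ⧸ Φ) ⧸ Db)
  obtain ⟨θ₂, hθ₂, hθ₂θ⟩ := exists_constituent_map (H := L) hKL χ₂ θ (by
    rw [← hinf] at hθ
    exact hθ)
  have hDbL : Db ≤ L := fun u hu => Subgroup.mem_centralizer_iff.2
    fun v hv => congrArg Subtype.val (hDc ⟨v, hv⟩ ⟨u, hu⟩)
  have hyθ₂ : SameBlock M θ₂.1
      (Char.conjChar (L.map (QuotientGroup.mk' Db)) θ₂ ((y : G ⧸ Φ) : (G ⧸ Φ) ⧸ Db)).1 :=
    sameBlock_map hpM (hDp.map _) hDbL hKL (fun g hg _ => hLK hg) hKL hθ₂θ
      (η' := Char.conjChar K θ (y : G ⧸ Φ))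
      (by rw [classInner_restr_conj]; exact hθ₂θ) hyθ
  have hmain : (y : G ⧸ Φ) ∈ L :=
    mem_centralizer_of_fixes hpM hBb' hDb hDc hexp hdegb (hinf ▸ hχ₁) hθ₂ hyθ₂
  exact hregH y hmain hreg

/-- Equal degrees of height zero force nilpotency. -/
theorem isNilpotentBlock_of_equal_degree (hpM : (p : AlgInt) ∈ M) (hB : IsPBlock M B)
    (hD : IsDefectGroup p M B D) {n : ℕ}
    (hdeg : ∀ χ ∈ B, blockHeight p B χ.1 = 0 → Char.degree χ = n) : IsNilpotentBlock p M B := by
  rw [BrauerPairs.isNilpotentBlock_iff hB]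
  obtain ⟨e, -, hmax⟩ := BrauerPairs.exists_isMax_of_isDefectGroup hB hD
  refine isNilpotentPairs_of_stab (fun H => BrauerPairs.hasBlocks M H) (BrauerPairs.isBlockIdem_blkG hB)
    hmax (BrauerPairs.mem_suppIn.2 fun g hg => ?_) fun e' he' hBe y hy hreg => ?_
  · rw [BrauerPairs.coeff_blkG, red_eq_zero_of_mem]
    by_contra hne
    exact hg (BlocksX.mem_centralizer_of_unit_blockCoeff hpM hB (IsDefectGroup.isPGroup hD) hne)
  · obtain ⟨b, hb, rfl⟩ := BrauerPairs.exists_eq_blk _ he'
    exact mem_centralizer_of_stab hpM hB hD hdeg hb hBe hy hreg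

end Cfsg.Agent.EqualDegree
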